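import Cfsg.Agent.H620.PNorm
import Cfsg.Agent.H713.Invol
import Cfsg.Agent.HN.AutHS
import Cfsg.Agent.HN.CoverUnique
import Cfsg.Agent.H704.Spor49.PermCent
import Cfsg.Agent.H771.KTools_m3
import Cfsg.Agent.H710.VanCount
import Cfsg.Agent.H852.IMHSThree
import Cfsg.Agent.H547.SelfCent.McLHS
import Cfsg.Agent.H771.KHS
import Cfsg.Agent.H393.Iso.HS
import Cfsg.Agent.HN.AutBound
import Cfsg.Agent.H713.Spor.Small
import Cfsg.Agent.H419.Spor.M12
import Cfsg.Agent.UGT.End.MEleven
import Cfsg.Agent.H621.AltChar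
import Cfsg.Agent.H368.NB.Sq
import Cfsg.Agent.H107.NB.OrthTor_m3
import Cfsg.Agent.H978.NB.Fi24
import Cfsg.Agent.H536.NB.Suz
import Cfsg.Agent.H852.IMMathieu2
import Cfsg.Agent.H723.Spor.MOrders
import Cfsg.Agent.H603.SporElim
import Cfsg.Agent.Lib.FastPerm
import Cfsg.Agent.H894.J4Two
import Cfsg.Agent.H653.Spor.J4Dz
import Cfsg.Agent.H419.TwoTrans_m3
import Cfsg.Agent.H690.Spor.Tits
import Cfsg.Agent.H603.FD.TitsRow
import Cfsg.Agent.H535.Ore.ON
import Cfsg.Agent.H123.PV.Suz_mg_m3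
import Cfsg.Agent.H532.PNormTwo.Fi23Chk
import Cfsg.Agent.FastGrp
import Cfsg.Agent.Prune
set_option linter.all false

section
prune_inst 0x7f00000000000000000000000000000000000000000000000000000000000000000000000000000000000000000000000000000000000000000000000000000000000000000000000000000000000000003fffffffffffffffffffffffffffbeffbdffffffff

-- part: H998/PV/Base
section
set_option linter.all false
open scoped Cfsg.Agent.FastGrp

/-!
# Sporadic rows of S4555 and S4559 from characters of defect zero (helper998)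
-/

set_option autoImplicit false

namespace Cfsg.Agent.H998.PV

open Cfsg Cfsg.Agent.H665.NoPQ Cfsg.Agent.H620.PNorm

theorem vOrdP_of_hasDZ {K : Type*} [Group K] [Finite K] {p : ℕ} (hp : p.Prime) (h : HasDZ p K)
    (hd : p ∣ Nat.card K) : VOrdP p K := by
  have : Fact p.Prime := ⟨hp⟩
  obtain ⟨x, hx⟩ := exists_prime_orderOf_dvd_card' (G := K) p hd
  exact ⟨x, hx, Cfsg.Agent.H713.HasDZ.vz h (by rw [hx])⟩

/-- From a character of defect zero of a group of known order. -/
theorem vOrdP_of_card {K : Type*} [Group K] {p n : ℕ} (hp : p.Prime) (h : HasDZ p K)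
    (hn : Nat.card K = n) (h0 : n ≠ 0) (hd : p ∣ n) : VOrdP p K := by
  have : Finite K := Nat.finite_of_card_ne_zero (by rw [hn]; exact h0)
  exact vOrdP_of_hasDZ hp h (by rw [hn]; exact hd)

/-- The same for a group isomorphic to a model. -/
theorem vOrdP_of_equiv {K S : Type*} [Group K] [Group S] (e : K ≃* S) {p n : ℕ} (hp : p.Prime)
    (h : HasDZ p S) (hn : Nat.card S = n) (h0 : n ≠ 0) (hd : p ∣ n) : VOrdP p K :=
  (vOrdP_of_card hp h hn h0 hd).mulEquiv e.symm

end Cfsg.Agent.H998.PV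
end

-- part: H123/PV/HS_mg
section
set_option linter.all false
open scoped Cfsg.Agent.FastGrp

-- part: H123/PV/HS
section
/-!
# S4555: the prime 2 for `HS` (helper123)

An element `x` of order 8 (class 8A) whose centralizer in the automorphism group of the graph on 100 points has order
at most 32 and contains an odd permutation: `|C(x)| ≤ 16` in `HS`, which has more than 16 classes.
-/

set_option autoImplicit false
set_option maxRecDepth 100000

namespace Cfsg.Agent.H123.PV.HS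

open Cfsg Equiv Cfsg.Agent.SporadicA.PermTab Cfsg.Agent.HN Cfsg.Agent.HN.HS100 Cfsg.Agent.HN.AutBound
open Cfsg.Agent.H704.Spor49.PermCent Cfsg.Agent.H153.Zeros Cfsg.Agent.H710.VanCount

/-- the table of the element of order 8 -/
def t8 : ℕ := 0x760741103305e1782681207a1481d03e0c21381e05505813014043062160060080601242504604a0981384f03c07c0186206e1800802e07e0142e0140641740583401a0b40205f02c150288090220682b0630900381204b0ae0642d8020a00041a8450261042983608811c0304008405c1582103803c148590140e01185a0400540c03900e0000d82a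

/-- an odd automorphism of the graph commuting with it -/
def tc : ℕ := 0x580281904504a0d02e81e0201682c80f06e0982a8540501480c8040840382684c02c1282480d0600a43001307213c2080b0460701083c0120e82181d0ae0d80a05e04e1840f8470480b8110630560a8230530661582f82f07e0b41e8200621701c03e02e0682881803612c0a8350880040885b0b01382400c0801881d80800e0180285000600809000

def tO : ℕ := 0xb20b42881f0260143000804a110278420320c41100002a1540d05f022114248100c21002405e0a403c138530740a81a83802c0702e83b00e10c2302c0301400302b0820103181e0120e41485c0980c02a04709a0fc2b81d09c0d00601207c1580500206c0380a00101612c2d0240660bc1403c0941881180304c0f41b85802e0840685b0360801902e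
def tR : ℕ := 0x620382585d0a01201e82c0080543180804a0782902908811c308360b208c1382b02c03c268490500e42705a0741601984a04c07c0501007810c1704001206c208220260042b02a024000310380681081681108a02c2d81401a154030020c00c01203e0061442b83700e0fc298190be0802784c08c0680282102e0741785c0760d42f0320180700c054

theorem memQ {L : List ℕ} (h : ∀ P ∈ L, P = tX ∨ P = tY ∨ P = tW) : ∀ P ∈ L, InG Q P := by
  intro P hP
  rcases h P hP with rfl | rfl | rfl
  · exact inX
  · exact inY
  · exact inW

theorem mW {L : List ℕ} (h : L ⊆ [tX, tY, tW]) : ∀ P ∈ L, InG Q P :=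
  memQ fun P hP => by
    have := h hP
    simpa only [List.mem_cons, List.not_mem_nil, or_false] using this

theorem inT8 : InG Q t8 := word_of (L := [tX, tY, tW]) (mem3 inX inY inW) (by simp) (by decide +kernel)

theorem invC : chkInv 100 tc tc = true := by decide +kernel

/-- the odd automorphism -/
def c0 : Perm (Fin 100) := mkPerm tc tc invC

theorem c0_mem : c0 ∈ autG 100 adjA :=
  mkPerm_mem_autG invC (rowsOK_of_chk (chkInv_lt invC) (chkInv_inj invC) (by decide +kernel))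

theorem cntC : cntB (fun i => cond (Nat.beq (lk tc i) i) false true) 100 70 = true := by
  decide +kernel

theorem c0_sq : c0 * c0 = 1 := by
  refine Equiv.ext fun i => Fin.ext ?_
  have h : allB (fun i => Nat.beq (lk tc (lk tc i)) i) 100 = true := by decide +kernel
  exact Nat.eq_of_beq_eq_true ((allB_iff _ _).1 h i i.2)

theorem sign_c0 : Perm.sign c0 = -1 := by
  have h2 : c0.support.card = 70 := by
    rw [← card_fin_of_cntB _ 100 70 cntC]
    congr 1
  rw [sign_of_involution c0_sq, h2]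
  decide

/-! ### the centralizer -/

section

variable {w : Perm (Fin 100)} (hw : ∀ i : Fin 100, ((w i : Fin 100) : ℕ) = lk t8 i)
include hw

theorem comm_c0 : c0 * w = w * c0 := by
  refine Equiv.ext fun i => Fin.ext ?_
  rw [Perm.mul_apply, Perm.mul_apply, hw]
  change lk tc (w i : Fin 100) = lk t8 (lk tc i)
  rw [hw]
  have h : allB (fun i => Nat.beq (lk tc (lk t8 i)) (lk t8 (lk tc i))) 100 = true := by decide +kernel
  exact Nat.eq_of_beq_eq_true ((allB_iff _ _).1 h i i.2)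

/-- the test for the images of `1` -/
def T8 (v : ℕ) : Bool := Nat.beq (cd 100 adjA t8 v 8 v) (cd 100 adjA t8 1 8 1)

omit hw in
theorem cnt8 : cntB T8 100 32 = true := by decide +kernel

omit hw in
theorem not0 : notMemB 0 (orbL t8 8 1) = true := by decide +kernel
omit hw in
theorem not4 : notMemB 4 (orbL t8 8 0 ++ orbL t8 8 1) = true := by decide +kernel
omit hw in
theorem not5 : notMemB 5 (orbL t8 8 4 ++ (orbL t8 8 0 ++ orbL t8 8 1)) = true := by decide +kernel

omit hw in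
theorem u0 : cntB (fun v => band (Nat.beq (cd 100 adjA t8 v 8 v) (cd 100 adjA t8 0 8 0))
    (patt 100 adjA (orbL t8 8 1) 0 v)) 100 1 = true := by decide +kernel
omit hw in
theorem u4 : cntB (fun v => band (Nat.beq (cd 100 adjA t8 v 8 v) (cd 100 adjA t8 4 8 4))
    (patt 100 adjA (orbL t8 8 0 ++ orbL t8 8 1) 4 v)) 100 1 = true := by decide +kernel
omit hw in
theorem u5 : cntB (fun v => band (Nat.beq (cd 100 adjA t8 v 8 v) (cd 100 adjA t8 5 8 5))
    (patt 100 adjA (orbL t8 8 4 ++ (orbL t8 8 0 ++ orbL t8 8 1)) 5 v)) 100 1 = true := by decide +kernel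

omit hw in
theorem dist8 : chkDist 100 adjA (maskL (orbL t8 8 5 ++ (orbL t8 8 4 ++ (orbL t8 8 0 ++ orbL t8 8 1)))) tR tO = true := by
  decide +kernel

omit hw in
/-- the centralizer in the automorphism group of the graph -/
def H8 (w : Perm (Fin 100)) : Subgroup (Perm (Fin 100)) := autG 100 adjA ⊓ Subgroup.centralizer {w}

omit hw in
theorem comm_of_mem {c : Perm (Fin 100)} (hc : c ∈ H8 w) : c * w = w * c :=
  Subgroup.mem_centralizer_singleton_iff.1 hc.2

theorem card_ps8 : Nat.card (ps (H8 w) (1 : Fin 100)) ≤ 1 := by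
  rw [Subgroup.card_le_one_iff_eq_bot, Subgroup.eq_bot_iff_forall]
  intro c hc
  have h1 : Fx c 1 := ⟨by norm_num, fun i hi => by
    have : i = 1 := Fin.ext hi
    rw [this]
    exact hc.2⟩
  have hcw := comm_of_mem hc.1
  have F1 := fx_orbL hw hcw 8 h1
  have f0 := fx_of_cnt hw hc.1.1 hcw F1 0 8 (by norm_num) not0 u0
  have F0 : ∀ f ∈ orbL t8 8 0 ++ orbL t8 8 1, Fx c f := fun f hf => by
    rcases List.mem_append.1 hf with h | h
    · exact fx_orbL hw hcw 8 f0 f h
    · exact F1 f h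
  have f4 := fx_of_cnt hw hc.1.1 hcw F0 4 8 (by norm_num) not4 u4
  have F4 : ∀ f ∈ orbL t8 8 4 ++ (orbL t8 8 0 ++ orbL t8 8 1), Fx c f := fun f hf => by
    rcases List.mem_append.1 hf with h | h
    · exact fx_orbL hw hcw 8 f4 f h
    · exact F0 f h
  have f5 := fx_of_cnt hw hc.1.1 hcw F4 5 8 (by norm_num) not5 u5
  refine eq_one_of_dist dist8 c hc.1.1 fun f hf => ?_
  rcases List.mem_append.1 hf with h | h
  · exact fx_orbL hw hcw 8 f5 f h
  · exact F4 f h

theorem card_H8 : Nat.card (H8 w) ≤ 32 := by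
  refine card_le_of (m := 32) (k := 1) (1 : Fin 100) T8 (fun c hc => ?_) cnt8 (card_ps8 hw)
  have h1 := cd_inv hw hc.1 (comm_of_mem hc) 8 1 1
  unfold T8
  rw [Nat.beq_eq]
  exact h1

end

theorem finite_Q : Finite Q := AutHS.finite_Q

/-- twice the centralizer in `Q` -/
theorem card_cent {x : Q} (hx : ∀ i : Fin 100, (((x : Perm (Fin 100)) i : Fin 100) : ℕ) = lk t8 i) :
    Nat.card (Subgroup.centralizer ({x} : Set Q)) ≤ 16 := by
  have hm1 : ∀ a : Subgroup.centralizer ({x} : Set Q), ((a : Q) : Perm (Fin 100)) ∈ H8 (x : Perm (Fin 100)) := fun a =>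
    ⟨Q_le a.1.2, Subgroup.mem_centralizer_singleton_iff.2
      (congrArg Subtype.val (Subgroup.mem_centralizer_singleton_iff.1 a.2))⟩
  have hm2 : ∀ a : Subgroup.centralizer ({x} : Set Q),
      c0 * ((a : Q) : Perm (Fin 100)) ∈ H8 (x : Perm (Fin 100)) := fun a =>
    ⟨mul_mem c0_mem (Q_le a.1.2), Subgroup.mem_centralizer_singleton_iff.2 (by
        have h1 := congrArg Subtype.val (Subgroup.mem_centralizer_singleton_iff.1 a.2)
        have h2 : ((a : Q) : Perm (Fin 100)) * (x : Perm (Fin 100)) = x * ((a : Q) : Perm (Fin 100)) := h1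
        rw [mul_assoc, h2, ← mul_assoc, comm_c0 hx, mul_assoc])⟩
  let f : Subgroup.centralizer ({x} : Set Q) × Bool → H8 (x : Perm (Fin 100)) := fun p =>
    match p with
    | (a, false) => ⟨_, hm1 a⟩
    | (a, true) => ⟨_, hm2 a⟩
  have hs : ∀ g : Q, Perm.sign (g : Perm (Fin 100)) = 1 := fun g => (mem_Q_iff.1 g.2).2
  have hf : Function.Injective f := by
    rintro ⟨a, _ | _⟩ ⟨b, _ | _⟩ h
    · have h1 : ((a : Q) : Perm (Fin 100)) = ((b : Q) : Perm (Fin 100)) :=
        (congrArg Subtype.val h : (f (a, false) : Perm (Fin 100)) = f (b, false))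
      rw [Subtype.ext (Subtype.ext h1)]
    · exfalso
      have h1 : ((a : Q) : Perm (Fin 100)) = c0 * ((b : Q) : Perm (Fin 100)) :=
        (congrArg Subtype.val h : (f (a, false) : Perm (Fin 100)) = f (b, true))
      have h2 := congrArg Perm.sign h1
      rw [Perm.sign_mul, hs, hs, sign_c0] at h2
      exact absurd h2 (by decide)
    · exfalso
      have h1 : c0 * ((a : Q) : Perm (Fin 100)) = ((b : Q) : Perm (Fin 100)) :=
        (congrArg Subtype.val h : (f (a, true) : Perm (Fin 100)) = f (b, false))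
      have h2 := congrArg Perm.sign h1
      rw [Perm.sign_mul, hs, hs, sign_c0] at h2
      exact absurd h2 (by decide)
    · have h1 : c0 * ((a : Q) : Perm (Fin 100)) = c0 * ((b : Q) : Perm (Fin 100)) :=
        (congrArg Subtype.val h : (f (a, true) : Perm (Fin 100)) = f (b, true))
      rw [Subtype.ext (Subtype.ext (mul_left_cancel h1))]
  have h1 := Nat.card_le_card_of_injective f hf
  rw [Nat.card_prod, Nat.card_eq_fintype_card (α := Bool), Fintype.card_bool] at h1
  have h2 := card_H8 hx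
  omega

/-! ### automorphisms -/

theorem isConj_aut {x : Q} (hx : ∀ i : Fin 100, (((x : Perm (Fin 100)) i : Fin 100) : ℕ) = lk t8 i)
    (α : MulAut Q) : IsConj x (α x) := by
  obtain ⟨p, hp, h⟩ := AutHS.exists_perm α
  rcases Int.units_eq_one_or (Perm.sign p) with h1 | h1
  · exact isConj_iff.2 ⟨⟨p, mem_Q_iff.2 ⟨hp, h1⟩⟩, Subtype.ext (h x).symm⟩
  · have h2 : p * c0 ∈ Q := mem_Q_iff.2 ⟨mul_mem hp c0_mem, by rw [Perm.sign_mul, h1, sign_c0]; decide⟩
    refine isConj_iff.2 ⟨⟨p * c0, h2⟩, Subtype.ext ?_⟩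
    change p * c0 * (x : Perm (Fin 100)) * (p * c0)⁻¹ = ((α x : Q) : Perm (Fin 100))
    rw [h x, mul_inv_rev, mul_assoc p c0, comm_c0 hx]
    group

/-! ### classes -/

theorem exists_el {L : List ℕ} (h : ∀ P ∈ L, InG Q P) {m : ℕ} (hm : 0 < m) (ps : List ℕ)
    (hps : ∀ p ∈ m.primeFactors, p ∈ ps) (hchk : ordChk 100 L m ps = true) {a : ℕ}
    (ha : cntB (fun i => Nat.beq (bitM 100 adjA i (ev L i)) 1) 100 a = true) :
    ∃ g : Q, orderOf g = m ∧ ac 100 adjA (g : Perm (Fin 100)) = a := by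
  obtain ⟨g, hg, hgi⟩ := exists_ev L h
  rw [ordChk, band_eq_true, List.all_eq_true] at hchk
  refine ⟨⟨g, hg⟩, orderOf_eq_of_pow_and_pow_div_prime hm ?_ fun p hp hd => ?_, ac_of_cnt hgi ha⟩
  · exact Subtype.ext ((pow_eq_one_iff hgi m).2 hchk.1)
  · intro h1
    have h2 := hchk.2 p (hps p (Nat.mem_primeFactors.2 ⟨hp, hd, hm.ne'⟩))
    rw [(pow_eq_one_iff hgi (m / p)).1 (congrArg Subtype.val h1)] at h2
    exact absurd h2 (by decide)

theorem not_conj {g h : Q} {a b : ℕ} (hg : ac 100 adjA (g : Perm (Fin 100)) = a)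
    (hh : ac 100 adjA (h : Perm (Fin 100)) = b) (hab : a ≠ b) : ¬ IsConj g h := by
  intro hc
  obtain ⟨c, hc⟩ := isConj_iff.1 hc
  have h1 : (c : Perm (Fin 100)) * g * (c : Perm (Fin 100))⁻¹ = h := congrArg Subtype.val hc
  have h2 := ac_conj (A := adjA) (Q_le c.2) (g : Perm (Fin 100))
  rw [h1, hg, hh] at h2
  exact hab h2.symm

theorem e2a : ∃ g : Q, orderOf g = 2 ∧ ac 100 adjA (g : Perm (Fin 100)) = 40 :=
  exists_el (L := [tX]) (mW (by simp)) (by norm_num) [2] (by decide +kernel) (by decide +kernel) (by decide +kernel)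
theorem e2b : ∃ g : Q, orderOf g = 2 ∧ ac 100 adjA (g : Perm (Fin 100)) = 0 :=
  exists_el (L := [tY, tY, tY]) (mW (by simp)) (by norm_num) [2] (by decide +kernel) (by decide +kernel) (by decide +kernel)
theorem e3 : ∃ g : Q, orderOf g = 3 ∧ ac 100 adjA (g : Perm (Fin 100)) = 0 :=
  exists_el (L := [tY, tY]) (mW (by simp)) (by norm_num) [3] (by decide +kernel) (by decide +kernel) (by decide +kernel)
theorem e4a : ∃ g : Q, orderOf g = 4 ∧ ac 100 adjA (g : Perm (Fin 100)) = 8 :=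
  exists_el (L := [tX, tY, tX, tY]) (mW (by simp)) (by norm_num) [2] (by decide +kernel) (by decide +kernel) (by decide +kernel)
theorem e4b : ∃ g : Q, orderOf g = 4 ∧ ac 100 adjA (g : Perm (Fin 100)) = 16 :=
  exists_el (L := [tX, tY, tX, tW, tW]) (mW (by simp)) (by norm_num) [2] (by decide +kernel) (by decide +kernel) (by decide +kernel)
theorem e5a : ∃ g : Q, orderOf g = 5 ∧ ac 100 adjA (g : Perm (Fin 100)) = 0 :=
  exists_el (L := [tX, tY, tY, tX, tY, tY]) (mW (by simp)) (by norm_num) [5] (by decide +kernel) (by decide +kernel) (by decide +kernel)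
theorem e5b : ∃ g : Q, orderOf g = 5 ∧ ac 100 adjA (g : Perm (Fin 100)) = 10 :=
  exists_el (L := [tY, tW]) (mW (by simp)) (by norm_num) [5] (by decide +kernel) (by decide +kernel) (by decide +kernel)
theorem e6a : ∃ g : Q, orderOf g = 6 ∧ ac 100 adjA (g : Perm (Fin 100)) = 40 :=
  exists_el (L := [tX, tY, tW, tY, tW]) (mW (by simp)) (by norm_num) [2, 3] (by decide +kernel) (by decide +kernel) (by decide +kernel)
theorem e6b : ∃ g : Q, orderOf g = 6 ∧ ac 100 adjA (g : Perm (Fin 100)) = 24 :=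
  exists_el (L := [tY]) (mW (by simp)) (by norm_num) [2, 3] (by decide +kernel) (by decide +kernel) (by decide +kernel)
theorem e7 : ∃ g : Q, orderOf g = 7 ∧ ac 100 adjA (g : Perm (Fin 100)) = 14 :=
  exists_el (L := [tX, tY, tY, tW]) (mW (by simp)) (by norm_num) [7] (by decide +kernel) (by decide +kernel) (by decide +kernel)
theorem e8a : ∃ g : Q, orderOf g = 8 ∧ ac 100 adjA (g : Perm (Fin 100)) = 20 :=
  exists_el (L := [tX, tY]) (mW (by simp)) (by norm_num) [2] (by decide +kernel) (by decide +kernel) (by decide +kernel)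
theorem e8b : ∃ g : Q, orderOf g = 8 ∧ ac 100 adjA (g : Perm (Fin 100)) = 24 :=
  exists_el (L := [tX, tY, tW]) (mW (by simp)) (by norm_num) [2] (by decide +kernel) (by decide +kernel) (by decide +kernel)
theorem e10 : ∃ g : Q, orderOf g = 10 ∧ ac 100 adjA (g : Perm (Fin 100)) = 40 :=
  exists_el (L := [tX, tY, tY]) (mW (by simp)) (by norm_num) [2, 5] (by decide +kernel) (by decide +kernel) (by decide +kernel)
theorem e11 : ∃ g : Q, orderOf g = 11 ∧ ac 100 adjA (g : Perm (Fin 100)) = 22 :=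
  exists_el (L := [tX, tY, tY, tY, tW]) (mW (by simp)) (by norm_num) [11] (by decide +kernel) (by decide +kernel) (by decide +kernel)
theorem e12 : ∃ g : Q, orderOf g = 12 ∧ ac 100 adjA (g : Perm (Fin 100)) = 20 :=
  exists_el (L := [tX, tY, tY, tY]) (mW (by simp)) (by norm_num) [2, 3] (by decide +kernel) (by decide +kernel) (by decide +kernel)
theorem e20 : ∃ g : Q, orderOf g = 20 ∧ ac 100 adjA (g : Perm (Fin 100)) = 30 :=
  exists_el (L := [tX, tY, tY, tW, tY]) (mW (by simp)) (by norm_num) [2, 5] (by decide +kernel) (by decide +kernel) (by decide +kernel)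

theorem card_classes : 17 ≤ Nat.card (ConjClasses Q) := by
  have := finite_Q
  have h17 : 17 = ({1, 2, 3, 4, 5, 6, 7, 8, 10, 11, 12, 20} : Finset ℕ).card + ({2, 4, 5, 6, 8} : Finset ℕ).card := by
    decide
  rw [h17]
  refine le_card_conjClasses_two (G := Q) {1, 2, 3, 4, 5, 6, 7, 8, 10, 11, 12, 20} {2, 4, 5, 6, 8} ?_ ?_
  · intro n hn
    simp only [Finset.mem_insert, Finset.mem_singleton] at hn
    rcases hn with rfl | rfl | rfl | rfl | rfl | rfl | rfl | rfl | rfl | rfl | rfl | rfl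
    · exact ⟨1, orderOf_one⟩
    · obtain ⟨g, h, -⟩ := e2a; exact ⟨g, h⟩
    · obtain ⟨g, h, -⟩ := e3; exact ⟨g, h⟩
    · obtain ⟨g, h, -⟩ := e4a; exact ⟨g, h⟩
    · obtain ⟨g, h, -⟩ := e5a; exact ⟨g, h⟩
    · obtain ⟨g, h, -⟩ := e6a; exact ⟨g, h⟩
    · obtain ⟨g, h, -⟩ := e7; exact ⟨g, h⟩
    · obtain ⟨g, h, -⟩ := e8a; exact ⟨g, h⟩
    · obtain ⟨g, h, -⟩ := e10; exact ⟨g, h⟩
    · obtain ⟨g, h, -⟩ := e11; exact ⟨g, h⟩
    · obtain ⟨g, h, -⟩ := e12; exact ⟨g, h⟩
    · obtain ⟨g, h, -⟩ := e20; exact ⟨g, h⟩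
  · intro n hn
    simp only [Finset.mem_insert, Finset.mem_singleton] at hn
    rcases hn with rfl | rfl | rfl | rfl | rfl
    · obtain ⟨g, h, ha⟩ := e2a
      obtain ⟨g', h', ha'⟩ := e2b
      exact ⟨g, g', h, h', not_conj ha ha' (by norm_num)⟩
    · obtain ⟨g, h, ha⟩ := e4a
      obtain ⟨g', h', ha'⟩ := e4b
      exact ⟨g, g', h, h', not_conj ha ha' (by norm_num)⟩
    · obtain ⟨g, h, ha⟩ := e5a
      obtain ⟨g', h', ha'⟩ := e5b
      exact ⟨g, g', h, h', not_conj ha ha' (by norm_num)⟩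
    · obtain ⟨g, h, ha⟩ := e6a
      obtain ⟨g', h', ha'⟩ := e6b
      exact ⟨g, g', h, h', not_conj ha ha' (by norm_num)⟩
    · obtain ⟨g, h, ha⟩ := e8a
      obtain ⟨g', h', ha'⟩ := e8b
      exact ⟨g, g', h, h', not_conj ha ha' (by norm_num)⟩

theorem order8 {x : Q} (hx : ∀ i : Fin 100, (((x : Perm (Fin 100)) i : Fin 100) : ℕ) = lk t8 i) :
    orderOf x = 8 := by
  have hx' : ∀ i : Fin 100, (((x : Perm (Fin 100)) i : Fin 100) : ℕ) = ev [t8] i := hx
  refine orderOf_eq_of_pow_and_pow_div_prime (by norm_num) ?_ fun p hp hd => ?_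
  · exact Subtype.ext ((pow_eq_one_iff hx' 8).2 (by decide +kernel))
  · have h2 : p = 2 := (Nat.prime_dvd_prime_iff_eq hp Nat.prime_two).1 (hp.dvd_of_dvd_pow (show p ∣ 2 ^ 3 from hd))
    subst h2
    intro h1
    have h3 := (pow_eq_one_iff hx' (8 / 2)).1 (congrArg Subtype.val h1)
    revert h3
    decide +kernel

theorem vPow_Q : H620.PNorm.VPow 2 Q := by
  have := finite_Q
  obtain ⟨g, hg, hgi⟩ := inT8
  refine ⟨⟨g, hg⟩, ⟨3, order8 (x := ⟨g, hg⟩) hgi⟩, vz_of_card _
    (lt_of_le_of_lt (card_cent (x := ⟨g, hg⟩) hgi) (lt_of_lt_of_le (by norm_num) card_classes)) fun α => ⟨1, ?_⟩⟩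
  rw [pow_one]
  exact isConj_aut hgi α

/-- **`HS` at 2.** -/
theorem hs_2 {K : Type*} [Group K] (h : Spor.IsoHS K) : H620.PNorm.VPow 2 K := by
  obtain ⟨e⟩ := h
  obtain ⟨⟨f⟩, -⟩ := AutHS.nonempty_Q
  exact vPow_Q.mulEquiv (f.trans e.symm)

end Cfsg.Agent.H123.PV.HS
end

-- part: H393/Van/IntRow
section
/-!
# Integrality of inner products of the function `y ↦ χ (x * f y)` (helper393)

`x` an element of prime order `p`, `f : F →* G` a homomorphism whose image centralizes `x`, `μ` a linear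
character of `F`.  If `χ (x ^ i * f y) = χ (x * f y)` for `i ≠ 0` then `1 / #F * ∑ χ (x * f y) * conj (μ y)` is
an integer.
-/

set_option autoImplicit false

namespace Cfsg.Agent.H393.Van

open Cfsg Cfsg.Agent.Characters.Core Cfsg.Agent.Characters.Linear Cfsg.Agent.H713.Count
open scoped ComplexConjugate

variable {G : Type*} [Group G] {p : ℕ} [hp : Fact p.Prime] {F : Type} [Group F] [Fintype F]

/-- The homomorphism `(i, y) ↦ x ^ i * f y`. -/
noncomputable def pairHom (x : G) (hx : x ^ p = 1) (f : F →* G) (hc : ∀ y, f y * x = x * f y) :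
    Multiplicative (ZMod p) × F →* G where
  toFun a := x ^ (Multiplicative.toAdd a.1).val * f a.2
  map_one' := by simp
  map_mul' a b := by
    have h1 : Commute (f a.2) (x ^ (Multiplicative.toAdd b.1).val) := (show Commute (f a.2) x from hc _).pow_right _
    rw [Prod.fst_mul, Prod.snd_mul, toAdd_mul, ← pow_val_add hx, map_mul, mul_assoc, mul_assoc,
      ← mul_assoc (f a.2), h1.eq, mul_assoc]

/-- The character `lam k × μ`. -/
noncomputable def pairChar (k : ZMod p) (μ : F →* ℂˣ) : Multiplicative (ZMod p) × F →* ℂˣ :=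
  (lam k).coprod μ

theorem mlt_pair_isNat [Finite G] {x : G} (hx : x ^ p = 1) (f : F →* G) (hc : ∀ y, f y * x = x * f y)
    (μ : F →* ℂˣ) {χ : G → ℂ} (hχ : IsCharacter G χ) (k : ZMod p) :
    ∃ n : ℕ, ((p : ℂ) * Fintype.card F)⁻¹ * ∑ i : ZMod p, conj (ZMod.stdAddChar (k * i)) *
      ∑ y : F, χ (x ^ i.val * f y) * conj ((μ y : ℂˣ) : ℂ) = n := by
  have h1 := isCharacter_comp (pairHom x hx f hc) hχ
  obtain ⟨n, hn⟩ := classInner_isNat h1 (isCharacter_hom (pairChar (p := p) k μ))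
  refine ⟨n, ?_⟩
  rw [← hn, Cfsg.Agent.Characters.Core.classInner_def, Nat.card_eq_fintype_card, Fintype.card_prod]
  congr 1
  · simp only [ZMod.card, _root_.mul_inv_rev, _root_.Fintype.card_multiplicative, _root_.ZMod.card, _root_.Nat.cast_mul]
  · rw [Fintype.sum_prod_type]
    refine Fintype.sum_equiv Multiplicative.ofAdd _ _ fun i => ?_
    rw [Finset.mul_sum]
    refine Finset.sum_congr rfl fun y _ => ?_
    have h2 : ((pairChar (p := p) k μ (Multiplicative.ofAdd i, y) : ℂˣ) : ℂ) =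
        ZMod.stdAddChar (k * i) * (μ y : ℂ) := by
      show (((lam k (Multiplicative.ofAdd i)) * μ y : ℂˣ) : ℂ) = _
      rw [Units.val_mul, lam_apply]
    have h3 : (χ ∘ pairHom x hx f hc) (Multiplicative.ofAdd i, y) = χ (x ^ i.val * f y) := rfl
    have h4 : conj (ZMod.stdAddChar (k * i) * (μ y : ℂ) : ℂ) = conj (ZMod.stdAddChar (k * i) : ℂ) * conj (μ y : ℂ) :=
      RingHom.map_mul _ _ _
    rw [h2, h3, h4]
    ring

/-- **Integrality.** -/
theorem int_of_hom [Finite G] {x : G} (hx : x ^ p = 1) (f : F →* G) (hc : ∀ y, f y * x = x * f y)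
    (μ : F →* ℂˣ) {χ : G → ℂ} (hχ : IsCharacter G χ)
    (hrat : ∀ i : ZMod p, i ≠ 0 → ∀ y, χ (x ^ i.val * f y) = χ (x * f y)) :
    ∃ n : ℤ, (Fintype.card F : ℂ)⁻¹ * ∑ y : F, χ (x * f y) * conj ((μ y : ℂˣ) : ℂ) = n := by
  classical
  obtain ⟨m0, hm0⟩ := mlt_pair_isNat hx f hc μ hχ 0
  obtain ⟨m1, hm1⟩ := mlt_pair_isNat hx f hc μ hχ 1
  refine ⟨m0 - m1, ?_⟩
  set S0 : ℂ := ∑ y : F, χ (x ^ (0 : ZMod p).val * f y) * conj ((μ y : ℂˣ) : ℂ) with hS0
  set S1 : ℂ := ∑ y : F, χ (x * f y) * conj ((μ y : ℂˣ) : ℂ) with hS1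
  have hp0 : (p : ℂ) ≠ 0 := by exact_mod_cast hp.out.ne_zero
  have hF0 : (Fintype.card F : ℂ) ≠ 0 := by exact_mod_cast Fintype.card_ne_zero
  have hS : ∀ i : ZMod p, ∑ y : F, χ (x ^ i.val * f y) * conj ((μ y : ℂˣ) : ℂ) = S1 + if i = 0 then S0 - S1 else 0 := by
    intro i
    split_ifs with hi
    · rw [hi]
      simp only [hS0, _root_.ZMod.val_zero, _root_.pow_zero, _root_.one_mul, _root_.add_sub_cancel]
    · rw [add_zero, hS1]
      exact Finset.sum_congr rfl fun y _ => by rw [hrat i hi y]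
  have key : ∀ k : ZMod p, ∑ i : ZMod p, conj (ZMod.stdAddChar (k * i) : ℂ) *
      ∑ y : F, χ (x ^ i.val * f y) * conj ((μ y : ℂˣ) : ℂ) = (if k = 0 then (p : ℂ) * S1 else 0) + (S0 - S1) := by
    intro k
    have h1 : ∀ i : ZMod p, conj (ZMod.stdAddChar (k * i) : ℂ) *
        ∑ y : F, χ (x ^ i.val * f y) * conj ((μ y : ℂˣ) : ℂ) =
        conj (ZMod.stdAddChar (k * i) : ℂ) * S1 + if i = 0 then S0 - S1 else 0 := by
      intro i
      rw [hS i, mul_add]
      split_ifs with hi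
      · rw [hi, mul_zero, AddChar.map_zero_eq_one, map_one, one_mul, one_mul]
      · rw [mul_zero]
    rw [Finset.sum_congr rfl fun i _ => h1 i, Finset.sum_add_distrib, ← Finset.sum_mul,
      Finset.sum_ite_eq' Finset.univ (0 : ZMod p), if_pos (Finset.mem_univ _), ← map_sum, sum_stdAddChar]
    congr 1
    split_ifs with hk
    · rw [Complex.conj_natCast]
    · rw [map_zero, zero_mul]
  rw [key 0, if_pos rfl] at hm0
  rw [key 1, if_neg one_ne_zero, zero_add] at hm1
  push_cast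
  rw [← hm0, ← hm1]
  field_simp
  ring

end Cfsg.Agent.H393.Van
end

-- part: H393/Van/S5Row
section
/-!
# Vanishing at an element of order `3` with centralizer `3 × S₅` by counting rows (helper393)

The generalized decomposition numbers at `x` of the characters of `G` are rows `(a, b, c, d, e)` of integers with
`∑ (a ^ 2 - a b + b ^ 2 + c ^ 2 - c d + d ^ 2 + e ^ 2) = 21`; so some row is zero if `G` has at least `22`
conjugacy classes.
-/

set_option autoImplicit false

namespace Cfsg.Agent.H393.Van.S5Row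

open Cfsg Cfsg.Agent.Characters.Core Cfsg.Agent.H713.Count Equiv Subgroup Cfsg.Agent.H393.Van
open scoped ComplexConjugate

abbrev S5 := Perm (Fin 5)

/-- `4`-cycle -/
def R : S5 := ⟨![1, 2, 3, 0, 4], ![3, 0, 1, 2, 4], by decide, by decide⟩
/-- transposition -/
def s : S5 := swap 0 2
/-- `5`-cycle -/
def c5 : S5 := finRotate 5

/-- the dihedral group in `S₅` -/
def D8 : DihedralGroup 4 →* S5 where
  toFun g := match g with
    | DihedralGroup.r i => R ^ i.val
    | DihedralGroup.sr i => s * R ^ i.val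
  map_one' := by decide
  map_mul' := by decide +kernel

/-- the linear characters of the dihedral group -/
def mu (ε δ : ℤˣ) : DihedralGroup 4 →* ℤˣ where
  toFun g := match g with
    | DihedralGroup.r i => ε ^ i.val
    | DihedralGroup.sr i => δ * ε ^ i.val
  map_one' := by decide +revert
  map_mul' := by decide +revert

theorem mu_vals : ∀ ε δ : ℤˣ, mu ε δ (.r 0) = 1 ∧ mu ε δ (.r 1) = ε ∧ mu ε δ (.r 2) = 1 ∧ mu ε δ (.r 3) = ε ∧
    mu ε δ (.sr 0) = δ ∧ mu ε δ (.sr 1) = δ * ε ∧ mu ε δ (.sr 2) = δ ∧ mu ε δ (.sr 3) = δ * ε := by decide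

theorem sum_dihedral (f : DihedralGroup 4 → ℂ) : ∑ g, f g =
    (f (.r 0) + f (.r 1) + f (.r 2) + f (.r 3)) + (f (.sr 0) + f (.sr 1) + f (.sr 2) + f (.sr 3)) := by
  rw [Fintype.sum_equiv DihedralGroup.equivSum f (fun a => f (DihedralGroup.equivSum.symm a))
    (fun g => by rw [Equiv.symm_apply_apply]), Fintype.sum_sum_type]
  congr 1
  · exact Fin.sum_univ_four _
  · exact Fin.sum_univ_four _


section struct

variable {G : Type*} [Group G] {x t : G} {φ : S5 →* G}

theorem pow_eq_of_comm_inv (hx : orderOf x = 3) (ht : t * x * t⁻¹ = x⁻¹) {k : ℕ}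
    (h : x ^ k * t = t * x ^ k) : x ^ k = 1 := by
  have h1 : t * x ^ k * t⁻¹ = (x ^ k)⁻¹ := by rw [← inv_pow, ← ht, conj_pow]
  rw [← h, mul_inv_cancel_right] at h1
  have h2 : (x ^ k) ^ 2 = 1 := by rw [pow_two]; nth_rewrite 1 [h1]; exact inv_mul_cancel _
  have h3 : (x ^ k) ^ 3 = 1 := by rw [← pow_mul, mul_comm, pow_mul, ← hx, pow_orderOf_eq_one, one_pow]
  calc x ^ k = (x ^ k) ^ 3 * ((x ^ k) ^ 2)⁻¹ := by group
    _ = 1 := by rw [h2, h3, inv_one, mul_one]

theorem fact3 : Fact (Nat.Prime 3) := ⟨by norm_num⟩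

theorem zpow_val_ne {i : ZMod 3} (hx : orderOf x = 3) (h : x ^ i.val = 1) : i = 0 := by
  have h1 := orderOf_dvd_of_pow_eq_one h
  rw [hx] at h1
  have h2 : i.val < 3 := ZMod.val_lt i
  have h3 : i.val = 0 := by omega
  exact (ZMod.val_eq_zero i).1 h3

/-- `C(x)` is the product of `⟨x⟩` and the image of `φ`. -/
theorem exists_of_comm [Finite G] (hx : orderOf x = 3) (ht : t * x * t⁻¹ = x⁻¹) (hφ : Function.Injective φ)
    (hφx : ∀ σ, φ σ * x = x * φ σ) (hφt : ∀ σ, φ σ * t = t * φ σ)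
    (hc : Nat.card (centralizer ({x} : Set G)) ≤ 360) {g : G} (hg : g * x = x * g) :
    ∃ (i : ZMod 3) (τ : S5), g = x ^ i.val * φ τ := by
  have hx3 : x ^ 3 = 1 := by rw [← hx]; exact pow_orderOf_eq_one x
  let f : ZMod 3 × S5 → centralizer ({x} : Set G) := fun a => ⟨x ^ a.1.val * φ a.2, by
    rw [mem_centralizer_singleton_iff, mul_assoc, hφx, ← mul_assoc, ← mul_assoc, ← pow_succ, ← pow_succ']⟩
  have hf : Function.Injective f := by
    rintro ⟨i, τ⟩ ⟨j, ρ⟩ h
    have h1 : x ^ i.val * φ τ = x ^ j.val * φ ρ := congrArg Subtype.val h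
    have h2 : φ (ρ * τ⁻¹) = (x ^ j.val)⁻¹ * x ^ i.val := by
      rw [map_mul, map_inv, eq_comm, ← mul_inv_eq_one]
      rw [show (x ^ j.val)⁻¹ * x ^ i.val * (φ ρ * (φ τ)⁻¹)⁻¹ = (x ^ j.val)⁻¹ * (x ^ i.val * φ τ) * (φ ρ)⁻¹ by group, h1]
      group
    have h3 : (x ^ j.val)⁻¹ = x ^ (2 * j.val) := by
      rw [inv_eq_iff_mul_eq_one, ← pow_add, show j.val + 2 * j.val = 3 * j.val by ring, pow_mul, hx3, one_pow]
    rw [h3, ← pow_add] at h2
    have h4 : x ^ (2 * j.val + i.val) = 1 := by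
      apply pow_eq_of_comm_inv hx ht
      rw [← h2]
      exact hφt _
    rw [h4] at h2
    have h5 : ρ * τ⁻¹ = 1 := hφ (by rw [h2, map_one])
    have h6 : ρ = τ := mul_inv_eq_one.1 h5
    subst h6
    have h7 : x ^ i.val = x ^ j.val := mul_right_cancel h1
    have h8 : i = j := by
      have h9 := pow_injOn_Iio_orderOf (x := x)
      have := h9 (show i.val ∈ Set.Iio (orderOf x) by rw [hx]; exact ZMod.val_lt i)
        (show j.val ∈ Set.Iio (orderOf x) by rw [hx]; exact ZMod.val_lt j) h7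
      exact ZMod.val_injective 3 this
    rw [h8]
  have hcard : Nat.card (ZMod 3 × S5) = 360 := by
    rw [Nat.card_prod, Nat.card_zmod, Nat.card_eq_fintype_card, Fintype.card_perm, Fintype.card_fin]
    rfl
  have hb : Function.Bijective f := hf.bijective_of_nat_card_le (by rw [hcard]; exact hc)
  obtain ⟨⟨i, τ⟩, h⟩ := hb.2 ⟨g, mem_centralizer_singleton_iff.2 hg⟩
  exact ⟨i, τ, (congrArg Subtype.val h).symm⟩

theorem pow_forty (hx : orderOf x = 3) (hφx : ∀ σ, φ σ * x = x * φ σ) {σ : S5} (hσ : σ ^ 40 = 1) :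
    (x * φ σ) ^ 40 = x := by
  have hx3 : x ^ 3 = 1 := by rw [← hx]; exact pow_orderOf_eq_one x
  have h1 : Commute x (φ σ) := (hφx σ).symm
  rw [h1.mul_pow, ← map_pow, hσ, map_one, mul_one, show 40 = 3 * 13 + 1 by norm_num, pow_add, pow_mul, hx3,
    one_pow, one_mul, pow_one]

/-- Fusion. -/
theorem fusion [Finite G] (hx : orderOf x = 3) (ht : t * x * t⁻¹ = x⁻¹) (hφ : Function.Injective φ)
    (hφx : ∀ σ, φ σ * x = x * φ σ) (hφt : ∀ σ, φ σ * t = t * φ σ)
    (hc : Nat.card (centralizer ({x} : Set G)) ≤ 360) {σ σ' : S5} (hσ : σ ^ 40 = 1) (hσ' : σ' ^ 40 = 1) {g : G}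
    (hg : g * (x * φ σ) * g⁻¹ = x * φ σ') :
    ∃ (i : ZMod 3) (τ : S5), g = x ^ i.val * φ τ ∧ τ * σ = σ' * τ := by
  have h1 : g * x * g⁻¹ = x := by
    have h2 := congrArg (fun z => z ^ 40) hg
    simp only [conj_pow] at h2
    rwa [pow_forty hx hφx hσ, pow_forty hx hφx hσ'] at h2
  have h2 : g * x = x * g := by
    nth_rewrite 2 [← h1]
    group
  obtain ⟨i, τ, rfl⟩ := exists_of_comm hx ht hφ hφx hφt hc h2
  refine ⟨i, τ, rfl, hφ ?_⟩
  have h3 : ∀ ρ, x ^ i.val * φ ρ = φ ρ * x ^ i.val := fun ρ => (show Commute x (φ ρ) from (hφx ρ).symm).pow_left _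
  have h4 : x ^ i.val * φ τ * (x * φ σ) = x * φ σ' * (x ^ i.val * φ τ) := by
    rw [← hg]; group
  have h5 : x ^ i.val * φ τ * (x * φ σ) = x ^ (i.val + 1) * (φ τ * φ σ) := by
    rw [pow_succ, mul_assoc, mul_assoc, ← mul_assoc (φ τ), hφx, mul_assoc]
  have h6 : x * φ σ' * (x ^ i.val * φ τ) = x ^ (i.val + 1) * (φ σ' * φ τ) := by
    rw [mul_assoc, ← mul_assoc (φ σ'), ← h3, pow_succ', mul_assoc, mul_assoc]
  rw [h5, h6] at h4
  rw [map_mul, map_mul]
  exact mul_left_cancel h4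

theorem not_isConj [Finite G] (hx : orderOf x = 3) (ht : t * x * t⁻¹ = x⁻¹) (hφ : Function.Injective φ)
    (hφx : ∀ σ, φ σ * x = x * φ σ) (hφt : ∀ σ, φ σ * t = t * φ σ)
    (hc : Nat.card (centralizer ({x} : Set G)) ≤ 360) {σ σ' : S5} (hσ : σ ^ 40 = 1) (hσ' : σ' ^ 40 = 1)
    (hne : ∀ τ, τ * σ ≠ σ' * τ) : ¬ IsConj (x * φ σ) (x * φ σ') := by
  intro h
  obtain ⟨g, hg⟩ := isConj_iff.1 h
  obtain ⟨-, τ, -, h1⟩ := fusion hx ht hφ hφx hφt hc hσ hσ' hg
  exact hne τ h1

theorem card_cent [Finite G] (hx : orderOf x = 3) (ht : t * x * t⁻¹ = x⁻¹) (hφ : Function.Injective φ)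
    (hφx : ∀ σ, φ σ * x = x * φ σ) (hφt : ∀ σ, φ σ * t = t * φ σ)
    (hc : Nat.card (centralizer ({x} : Set G)) ≤ 360) {σ : S5} (hσ : σ ^ 40 = 1) {m : ℕ}
    (hm : Fintype.card {τ : S5 // τ * σ = σ * τ} = m) :
    Nat.card (centralizer ({x * φ σ} : Set G)) ≤ 3 * m := by
  have h3 : ∀ (i : ZMod 3) ρ, x ^ i.val * φ ρ = φ ρ * x ^ i.val := fun i ρ =>
    (show Commute x (φ ρ) from (hφx ρ).symm).pow_left _
  let f : ZMod 3 × {τ : S5 // τ * σ = σ * τ} → centralizer ({x * φ σ} : Set G) := fun a =>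
    ⟨x ^ a.1.val * φ a.2, by
      rw [mem_centralizer_singleton_iff]
      have h5 : x ^ a.1.val * φ a.2 * (x * φ σ) = x ^ (a.1.val + 1) * (φ a.2 * φ σ) := by
        rw [pow_succ, mul_assoc, mul_assoc, ← mul_assoc (φ _), hφx, mul_assoc]
      have h6 : x * φ σ * (x ^ a.1.val * φ a.2) = x ^ (a.1.val + 1) * (φ σ * φ a.2) := by
        rw [mul_assoc, ← mul_assoc (φ σ), ← h3, pow_succ', mul_assoc, mul_assoc]
      rw [h5, h6, ← map_mul, ← map_mul, a.2.2]⟩
  have hf : Function.Surjective f := by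
    rintro ⟨g, hg⟩
    have hg' : g * (x * φ σ) = (x * φ σ) * g := mem_centralizer_singleton_iff.1 hg
    obtain ⟨i, τ, h1, h2⟩ := fusion hx ht hφ hφx hφt hc hσ hσ (g := g) (by rw [hg', mul_inv_cancel_right])
    exact ⟨(i, ⟨τ, h2⟩), Subtype.ext h1.symm⟩
  have h4 := Nat.card_le_card_of_surjective f hf
  rwa [Nat.card_prod, Nat.card_zmod, Nat.card_eq_fintype_card (α := {τ : S5 // τ * σ = σ * τ}), hm] at h4

end struct

/-! ### The rows -/

section rows

variable {G : Type*} [Group G] [Finite G] {x t : G} {φ : S5 →* G}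

omit [Finite G] in
/-- rationality -/
theorem rat_of_inv (hx : orderOf x = 3) (ht : t * x * t⁻¹ = x⁻¹) (hφt : ∀ σ, φ σ * t = t * φ σ)
    {χ : G → ℂ} (hχ : IsClassFunction G χ) (i : ZMod 3) (hi : i ≠ 0) (σ : S5) :
    χ (x ^ i.val * φ σ) = χ (x * φ σ) := by
  have hx3 : x ^ 3 = 1 := by rw [← hx]; exact pow_orderOf_eq_one x
  have h1 : i = 1 ∨ i = 2 := by
    revert i
    decide
  rcases h1 with rfl | rfl
  · rw [ZMod.val_one, pow_one]
  · have h2 : (2 : ZMod 3).val = 2 := rfl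
    have h3 : x ^ 2 = x⁻¹ := by rw [eq_inv_iff_mul_eq_one, ← pow_succ, hx3]
    rw [h2, h3, ← ht, ← hχ (x * φ σ) t]
    congr 1
    have h4 : t⁻¹ * φ σ = φ σ * t⁻¹ := by
      rw [eq_mul_inv_iff_mul_eq, mul_assoc, hφt, inv_mul_cancel_left]
    rw [mul_assoc (t * x), h4]
    group

omit [Finite G] in
/-- class function -/
theorem conj_eq {χ : G → ℂ} (hχ : IsClassFunction G χ) (hφx : ∀ σ, φ σ * x = x * φ σ) {σ σ' : S5}
    (h : ∃ τ : S5, τ * σ = σ' * τ) : χ (x * φ σ') = χ (x * φ σ) := by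
  obtain ⟨τ, hτ⟩ := h
  rw [← hχ (x * φ σ) (φ τ)]
  congr 1
  rw [eq_mul_inv_iff_mul_eq, mul_assoc, ← map_mul, ← hτ, map_mul, ← mul_assoc, ← mul_assoc, hφx]

/-- the linear characters of the dihedral group, complex -/
noncomputable def muC (ε δ : ℤˣ) : DihedralGroup 4 →* ℂˣ := (Units.map (Int.castRingHom ℂ).toMonoidHom).comp (mu ε δ)

theorem muC_apply (ε δ : ℤˣ) (g : DihedralGroup 4) : ((muC ε δ g : ℂˣ) : ℂ) = ((mu ε δ g : ℤˣ) : ℤ) := rfl

/-- The integers from the dihedral group. -/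
theorem int_dihedral (hx : orderOf x = 3) (ht : t * x * t⁻¹ = x⁻¹)
    (hφx : ∀ σ, φ σ * x = x * φ σ) (hφt : ∀ σ, φ σ * t = t * φ σ) (χ : IrrCharacter G) (ε δ : ℤˣ) :
    ∃ n : ℤ, (χ : G → ℂ) (x * φ 1) + (ε : ℤ) * (2 * (χ : G → ℂ) (x * φ R)) + (χ : G → ℂ) (x * φ (R ^ 2)) +
      (δ : ℤ) * (2 * (χ : G → ℂ) (x * φ s)) + (δ : ℤ) * (ε : ℤ) * (2 * (χ : G → ℂ) (x * φ (R ^ 2))) = 8 * n := by
  have := fact3
  have hx3 : x ^ 3 = 1 := by rw [← hx]; exact pow_orderOf_eq_one x
  have hcl : IsClassFunction G (χ : G → ℂ) := isIrr_isClassFunction χ.2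
  obtain ⟨n, hn⟩ := int_of_hom (p := 3) hx3 (φ.comp D8) (fun y => hφx _) (muC ε δ) (isIrr_isCharacter χ.2)
    (fun i hi y => rat_of_inv hx ht hφt hcl i hi _)
  refine ⟨n, ?_⟩
  have hcard : Fintype.card (DihedralGroup 4) = 8 := DihedralGroup.card
  rw [hcard, sum_dihedral, inv_mul_eq_iff_eq_mul₀ (by norm_num)] at hn
  simp only [muC_apply, map_intCast, MonoidHom.comp_apply] at hn
  have e0 : D8 (.r 0) = 1 := by decide
  have e1 : D8 (.r 1) = R := by decide
  have e2 : D8 (.r 2) = R ^ 2 := by decide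
  have f0 : D8 (.sr 0) = s := by decide
  have e3 : (χ : G → ℂ) (x * φ (D8 (.r 3))) = (χ : G → ℂ) (x * φ R) := conj_eq hcl hφx ⟨s, by decide⟩
  have f1 : (χ : G → ℂ) (x * φ (D8 (.sr 1))) = (χ : G → ℂ) (x * φ (R ^ 2)) := conj_eq hcl hφx ⟨swap 1 2, by decide⟩
  have f2 : (χ : G → ℂ) (x * φ (D8 (.sr 2))) = (χ : G → ℂ) (x * φ s) := conj_eq hcl hφx ⟨R, by decide⟩
  have f3 : (χ : G → ℂ) (x * φ (D8 (.sr 3))) = (χ : G → ℂ) (x * φ (R ^ 2)) := conj_eq hcl hφx ⟨swap 2 3, by decide⟩
  obtain ⟨g0, g1, g2, g3, h0, h1, h2, h3⟩ := mu_vals ε δ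
  rw [e3, f1, f2, f3, e0, e1, e2, f0, g0, g1, g2, g3, h0, h1, h2, h3] at hn
  push_cast at hn
  rw [← hn]
  ring

theorem c5_conj : ∀ i : ZMod 5, i ≠ 0 → ∃ τ : S5, τ * c5 = c5 ^ i.val * τ := by (set_option synthInstance.maxSize 9000 in open scoped Cfsg.Agent.Lib.FastPerm in decide +kernel)

/-- The integer from the 5-cycle. -/
theorem int_five (hx : orderOf x = 3) (ht : t * x * t⁻¹ = x⁻¹)
    (hφx : ∀ σ, φ σ * x = x * φ σ) (hφt : ∀ σ, φ σ * t = t * φ σ) (χ : IrrCharacter G) :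
    ∃ n : ℤ, (χ : G → ℂ) (x * φ 1) - (χ : G → ℂ) (x * φ c5) = 5 * n := by
  have := fact3
  have h5 : Fact (Nat.Prime 5) := ⟨by norm_num⟩
  have hx3 : x ^ 3 = 1 := by rw [← hx]; exact pow_orderOf_eq_one x
  have hcl : IsClassFunction G (χ : G → ℂ) := isIrr_isClassFunction χ.2
  have hc5 : c5 ^ 5 = 1 := by decide
  obtain ⟨n, hn⟩ := int_of_hom (p := 3) hx3 (φ.comp (hom (p := 5) c5 hc5)) (fun y => hφx _) (lam (p := 5) 1)
    (isIrr_isCharacter χ.2) (fun i hi y => rat_of_inv hx ht hφt hcl i hi _)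
  refine ⟨n, ?_⟩
  have hcard : Fintype.card (Multiplicative (ZMod 5)) = 5 := by simp
  rw [hcard, inv_mul_eq_iff_eq_mul₀ (by norm_num)] at hn
  have h1 : ∑ y : Multiplicative (ZMod 5), (χ : G → ℂ) (x * (φ.comp (hom (p := 5) c5 hc5)) y) *
      conj ((lam (p := 5) 1 y : ℂˣ) : ℂ) =
      ∑ i : ZMod 5, (χ : G → ℂ) (x * φ (c5 ^ i.val)) * conj (ZMod.stdAddChar i : ℂ) := by
    refine (Fintype.sum_equiv Multiplicative.ofAdd _ _ fun i => ?_).symm
    rw [lam_apply, one_mul]
    rfl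
  have h2 : ∀ i : ZMod 5, (χ : G → ℂ) (x * φ (c5 ^ i.val)) * conj (ZMod.stdAddChar i : ℂ) =
      (χ : G → ℂ) (x * φ c5) * conj (ZMod.stdAddChar i : ℂ) +
      if i = 0 then (χ : G → ℂ) (x * φ 1) - (χ : G → ℂ) (x * φ c5) else 0 := by
    intro i
    split_ifs with hi
    · rw [hi, ZMod.val_zero, pow_zero, AddChar.map_zero_eq_one, map_one (starRingEnd ℂ)]
      ring
    · rw [conj_eq hcl hφx (σ := c5) (σ' := c5 ^ i.val) (c5_conj i hi), add_zero]
  rw [h1, Finset.sum_congr rfl fun i _ => h2 i, Finset.sum_add_distrib, ← Finset.mul_sum, ← map_sum] at hn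
  have h3 := sum_stdAddChar (p := 5) 1
  simp only [one_mul] at h3
  rw [h3, if_neg one_ne_zero, map_zero, mul_zero, zero_add, Finset.sum_ite_eq' Finset.univ (0 : ZMod 5),
    if_pos (Finset.mem_univ _)] at hn
  rw [hn]
  push_cast
  ring

/-- The row of a character. -/
theorem exists_row (hx : orderOf x = 3) (ht : t * x * t⁻¹ = x⁻¹)
    (hφx : ∀ σ, φ σ * x = x * φ σ) (hφt : ∀ σ, φ σ * t = t * φ σ) (χ : IrrCharacter G) :
    ∃ a b c d e : ℤ, (χ : G → ℂ) (x * φ 1) = (a + 4 * b + c + 4 * d + 6 * e : ℤ) ∧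
      (χ : G → ℂ) (x * φ s) = (a - 2 * b - c + 2 * d : ℤ) ∧ (χ : G → ℂ) (x * φ (R ^ 2)) = (a + c - 2 * e : ℤ) ∧
      (χ : G → ℂ) (x * φ R) = (a - c : ℤ) ∧ (χ : G → ℂ) (x * φ c5) = (a - b + c - d + e : ℤ) := by
  obtain ⟨n1, e1⟩ := int_dihedral hx ht hφx hφt χ 1 1
  obtain ⟨n2, e2⟩ := int_dihedral hx ht hφx hφt χ (-1) (-1)
  obtain ⟨n3, e3⟩ := int_dihedral hx ht hφx hφt χ (-1) 1
  obtain ⟨n4, e4⟩ := int_dihedral hx ht hφx hφt χ 1 (-1)
  obtain ⟨n5, e5⟩ := int_five hx ht hφx hφt χ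
  push_cast at e1 e2 e3 e4
  refine ⟨n1 - n5 + n4, n5 - n3, n2 - n5 + n3, n5 - n4, n3 + n4 - n5, ?_, ?_, ?_, ?_, ?_⟩
  · push_cast
    linear_combination (1 / 8 : ℂ) * (e1 + e2 + 3 * e3 + 3 * e4)
  · push_cast
    linear_combination (1 / 8 : ℂ) * (e1 - e2 + e3 - e4)
  · push_cast
    linear_combination (1 / 8 : ℂ) * (e1 + e2 - e3 - e4)
  · push_cast
    linear_combination (1 / 8 : ℂ) * (e1 - e2 - e3 + e4)
  · push_cast
    linear_combination (1 / 8 : ℂ) * (e1 + e2 + 3 * e3 + 3 * e4) - e5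

theorem cards : Fintype.card {τ : S5 // τ * 1 = 1 * τ} = 120 ∧ Fintype.card {τ : S5 // τ * s = s * τ} = 12 ∧
    Fintype.card {τ : S5 // τ * R ^ 2 = R ^ 2 * τ} = 8 ∧ Fintype.card {τ : S5 // τ * R = R * τ} = 4 ∧
    Fintype.card {τ : S5 // τ * c5 = c5 * τ} = 5 := by (set_option synthInstance.maxSize 9000 in open scoped Cfsg.Agent.Lib.FastPerm in decide +kernel)

theorem nconj : (∀ τ : S5, τ * 1 ≠ R ^ 2 * τ) ∧ (∀ τ : S5, τ * 1 ≠ c5 * τ) ∧ (∀ τ : S5, τ * R ^ 2 ≠ c5 * τ) := by
  (set_option synthInstance.maxSize 9000 in open scoped Cfsg.Agent.Lib.FastPerm in decide +kernel)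

theorem pows : (1 : S5) ^ 40 = 1 ∧ s ^ 40 = 1 ∧ (R ^ 2) ^ 40 = 1 ∧ R ^ 40 = 1 ∧ c5 ^ 40 = 1 := by
  (set_option synthInstance.maxSize 9000 in open scoped Cfsg.Agent.Lib.FastPerm in decide +kernel)

/-- **A zero at `x`.** -/
theorem exists_zero (hx : orderOf x = 3) (ht : t * x * t⁻¹ = x⁻¹) (hφ : Function.Injective φ)
    (hφx : ∀ σ, φ σ * x = x * φ σ) (hφt : ∀ σ, φ σ * t = t * φ σ)
    (hc : Nat.card (centralizer ({x} : Set G)) ≤ 360) (hk : 22 ≤ Nat.card (ConjClasses G)) :
    ∃ χ : IrrCharacter G, (χ : G → ℂ) x = 0 := by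
  classical
  have := Fintype.ofFinite G
  have := finite_irr (G := G)
  have := Fintype.ofFinite (IrrCharacter G)
  obtain ⟨p1, p2, p3, p4, p5⟩ := pows
  obtain ⟨k1, k2, k3, k4, k5⟩ := cards
  obtain ⟨q1, q2, q3⟩ := nconj
  choose a b c d e h1 h2 h3 h4 h5 using exists_row hx ht hφx hφt (G := G)
  have orth : ∀ (σ σ' : S5) (V V' : IrrCharacter G → ℤ), (∀ χ : IrrCharacter G, (χ : G → ℂ) (x * φ σ) = V χ) →
      (∀ χ : IrrCharacter G, (χ : G → ℂ) (x * φ σ') = V' χ) → ¬ IsConj (x * φ σ) (x * φ σ') →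
      ∑ χ, V χ * V' χ = 0 := by
    intro σ σ' V V' hV hV' hn
    have h := Cfsg.Agent.S0145.sum_irr_mul_conj (x * φ σ) (x * φ σ')
    rw [if_neg hn] at h
    simp only [hV, hV', map_intCast] at h
    exact_mod_cast h
  have nrm : ∀ (σ : S5) (V : IrrCharacter G → ℤ), (∀ χ : IrrCharacter G, (χ : G → ℂ) (x * φ σ) = V χ) →
      ∑ χ, V χ * V χ = (Nat.card (centralizer ({x * φ σ} : Set G)) : ℤ) := by
    intro σ V hV
    have h := Cfsg.Agent.S0145.sum_irr_mul_conj (x * φ σ) (x * φ σ)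
    rw [if_pos (IsConj.refl _)] at h
    simp only [hV, map_intCast] at h
    exact_mod_cast h
  have n1 := nrm _ _ h1
  have n2 := nrm _ _ h2
  have n3 := nrm _ _ h3
  have n4 := nrm _ _ h4
  have n5 := nrm _ _ h5
  have o1 := orth _ _ _ _ h1 h3 (not_isConj hx ht hφ hφx hφt hc p1 p3 q1)
  have o2 := orth _ _ _ _ h1 h5 (not_isConj hx ht hφ hφx hφt hc p1 p5 q2)
  have o3 := orth _ _ _ _ h3 h5 (not_isConj hx ht hφ hφx hφt hc p3 p5 q3)
  have c1 := card_cent hx ht hφ hφx hφt hc p1 k1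
  have c2 := card_cent hx ht hφ hφx hφt hc p2 k2
  have c3 := card_cent hx ht hφ hφx hφt hc p3 k3
  have c4 := card_cent hx ht hφ hφx hφt hc p4 k4
  have c5' := card_cent hx ht hφ hφx hφt hc p5 k5
  set q : IrrCharacter G → ℤ := fun χ => a χ ^ 2 - a χ * b χ + b χ ^ 2 + (c χ ^ 2 - c χ * d χ + d χ ^ 2) + e χ ^ 2
    with hq
  have hsum : 800 * ∑ χ, q χ = 9 * (Nat.card (centralizer ({x * φ 1} : Set G)) : ℤ) +
      100 * (Nat.card (centralizer ({x * φ s} : Set G)) : ℤ) +
      125 * (Nat.card (centralizer ({x * φ (R ^ 2)} : Set G)) : ℤ) +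
      300 * (Nat.card (centralizer ({x * φ R} : Set G)) : ℤ) +
      224 * (Nat.card (centralizer ({x * φ c5} : Set G)) : ℤ) := by
    rw [← n1, ← n2, ← n3, ← n4, ← n5]
    have h6 : 800 * ∑ χ, q χ = 800 * ∑ χ, q χ + 10 * 0 - 8 * 0 + 40 * 0 := by ring
    have h7 : ∀ S1 S2 S3 S4 S5 : ℤ, 9 * S1 + 100 * S2 + 125 * S3 + 300 * S4 + 224 * S5 =
        9 * S1 + 100 * S2 + 125 * S3 + 300 * S4 + 224 * S5 + 10 * 0 - 8 * 0 + 40 * 0 := by intros; ring
    rw [h7]
    nth_rewrite 1 [← o1]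
    nth_rewrite 1 [← o2]
    nth_rewrite 1 [← o3]
    simp only [Finset.mul_sum, ← Finset.sum_add_distrib, ← Finset.sum_sub_distrib]
    refine Finset.sum_congr rfl fun χ _ => ?_
    simp only [hq]
    ring
  by_contra hcon
  push Not at hcon
  have hpos : ∀ χ, 1 ≤ q χ := by
    intro χ
    by_contra hlt
    apply hcon χ
    have h6 : q χ ≤ 0 := by omega
    simp only [hq] at h6
    have z1 := sq_nonneg (2 * a χ - b χ)
    have z2 := sq_nonneg (2 * c χ - d χ)
    have z3 := sq_nonneg (b χ)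
    have z4 := sq_nonneg (d χ)
    have z5 := sq_nonneg (e χ)
    have hb : b χ = 0 := by
      have : b χ ^ 2 ≤ 0 := by linarith only [hlt, z1, z2, z4, z5]
      exact pow_eq_zero_iff (two_ne_zero) |>.1 (le_antisymm this z3)
    have hd : d χ = 0 := by
      have : d χ ^ 2 ≤ 0 := by linarith only [hlt, z1, z2, z3, z5]
      exact pow_eq_zero_iff (two_ne_zero) |>.1 (le_antisymm this z4)
    have he : e χ = 0 := by
      have : e χ ^ 2 ≤ 0 := by linarith only [hlt, z1, z2, z3, z4]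
      exact pow_eq_zero_iff (two_ne_zero) |>.1 (le_antisymm this z5)
    rw [hb, hd, he] at h6
    have ha : a χ = 0 := by
      have : a χ ^ 2 ≤ 0 := by linarith only [h6, sq_nonneg (c χ)]
      exact pow_eq_zero_iff (two_ne_zero) |>.1 (le_antisymm this (sq_nonneg _))
    have hc' : c χ = 0 := by
      have : c χ ^ 2 ≤ 0 := by linarith only [h6, sq_nonneg (a χ)]
      exact pow_eq_zero_iff (two_ne_zero) |>.1 (le_antisymm this (sq_nonneg _))
    have h7 := h1 χ
    rw [map_one, mul_one, ha, hb, hc', hd, he] at h7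
    rw [h7]
    norm_num
  have h8 : (Fintype.card (IrrCharacter G) : ℤ) ≤ ∑ χ, q χ := by
    have := Finset.sum_le_sum fun χ (_ : χ ∈ (Finset.univ : Finset (IrrCharacter G))) => hpos χ
    simpa only [_root_.ge_iff_le, _root_.Finset.sum_const, _root_.Finset.card_univ, _root_.Int.nsmul_eq_mul, _root_.mul_one] using this
  rw [← Nat.card_eq_fintype_card, card_irr] at h8
  have h9 : (22 : ℤ) ≤ (Nat.card (ConjClasses G) : ℤ) := by exact_mod_cast hk
  zify at c1 c2 c3 c4 c5'
  linarith only [hk, hsum, h8, c1, c2, c3, c4, c5']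

end rows

end Cfsg.Agent.H393.Van.S5Row
end

-- part: H393/Van/HSClasses
section
/-!
# `HS` has at least 22 conjugacy classes (helper393)

Three class functions on the 100 points (joined to the image, fixed points of the square and of the fifth power)
have 21 different values; elements of order 11 are not conjugate to their inverses.
-/

set_option autoImplicit false

namespace Cfsg.Agent.H393.Van.HSClasses

open Cfsg Equiv Subgroup
open Cfsg.Agent.SporadicA.PermTab Cfsg.Agent.HN.HS100 Cfsg.Agent.H852.IMHS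

/-- points joined to their image -/
noncomputable def F1 (g : Q) : ℕ :=
  (Finset.univ.filter fun i : Fin 100 => Nat.beq (bitM 100 adjA i ((g : Perm (Fin 100)) i : Fin 100)) 1 = true).card

/-- fixed points of a power -/
def FP (k : ℕ) (g : Q) : ℕ := (Finset.univ.filter fun i : Fin 100 => ((g : Perm (Fin 100)) ^ k) i = i).card

theorem F1_conj (g c : Q) : F1 (c * g * c⁻¹) = F1 g := by
  unfold F1
  refine (Finset.card_bij (fun i _ => (c : Perm (Fin 100)) i) ?_ ?_ ?_).symm
  · intro i hi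
    rw [Finset.mem_filter] at hi ⊢
    refine ⟨Finset.mem_univ _, ?_⟩
    have h1 : ((c * g * c⁻¹ : Q) : Perm (Fin 100)) ((c : Perm (Fin 100)) i) =
        (c : Perm (Fin 100)) ((g : Perm (Fin 100)) i) := by
      simp only [Perm.mul_apply, _root_.Subgroup.coe_mul, _root_.InvMemClass.coe_inv, _root_.Equiv.Perm.mul_apply, _root_.Equiv.Perm.coe_inv, _root_.Equiv.symm_apply_apply]
    rw [h1, adj_eq]
    exact hi.2
  · intro i _ j _ h
    exact (c : Perm (Fin 100)).injective h
  · intro j hj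
    obtain ⟨i, rfl⟩ := (c : Perm (Fin 100)).surjective j
    refine ⟨i, ?_, rfl⟩
    rw [Finset.mem_filter] at hj ⊢
    refine ⟨Finset.mem_univ _, ?_⟩
    have h1 : ((c * g * c⁻¹ : Q) : Perm (Fin 100)) ((c : Perm (Fin 100)) i) =
        (c : Perm (Fin 100)) ((g : Perm (Fin 100)) i) := by
      simp only [Perm.mul_apply, _root_.Subgroup.coe_mul, _root_.InvMemClass.coe_inv, _root_.Equiv.Perm.mul_apply, _root_.Equiv.Perm.coe_inv, _root_.Equiv.symm_apply_apply]
    rw [h1, adj_eq] at hj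
    exact hj.2

theorem FP_conj (k : ℕ) (g c : Q) : FP k (c * g * c⁻¹) = FP k g := by
  unfold FP
  have h1 : ((c * g * c⁻¹ : Q) : Perm (Fin 100)) ^ k = (c : Perm (Fin 100)) * (g : Perm (Fin 100)) ^ k *
      (c : Perm (Fin 100))⁻¹ := by
    rw [← conj_pow]
    rfl
  have h2 : ∀ i, (((c * g * c⁻¹ : Q) : Perm (Fin 100)) ^ k) ((c : Perm (Fin 100)) i) =
      (c : Perm (Fin 100)) (((g : Perm (Fin 100)) ^ k) i) := by
    intro i
    rw [h1]
    simp [Perm.mul_apply]
  refine (Finset.card_bij (fun i _ => (c : Perm (Fin 100)) i) ?_ ?_ ?_).symm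
  · intro i hi
    rw [Finset.mem_filter] at hi ⊢
    refine ⟨Finset.mem_univ _, ?_⟩
    rw [h2, hi.2]
  · intro i _ j _ h
    exact (c : Perm (Fin 100)).injective h
  · intro j hj
    obtain ⟨i, rfl⟩ := (c : Perm (Fin 100)).surjective j
    refine ⟨i, ?_, rfl⟩
    rw [Finset.mem_filter] at hj ⊢
    refine ⟨Finset.mem_univ _, ?_⟩
    rw [h2] at hj
    exact (c : Perm (Fin 100)).injective hj.2

/-- the invariants -/
noncomputable def inv3 (g : Q) : ℕ × ℕ × ℕ := (F1 g, FP 2 g, FP 5 g)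

theorem inv3_conj (x y : Q) (h : IsConj x y) : inv3 x = inv3 y := by
  obtain ⟨c, rfl⟩ := isConj_iff.1 h
  unfold inv3
  rw [F1_conj, FP_conj, FP_conj]

/-- the check of the values -/
def chk3 (L : List ℕ) (v : ℕ × ℕ × ℕ) : Bool :=
  (cntB (fun i => Nat.beq (bitM 100 adjA i (ev L i)) 1) 100 v.1) &&
    (cntB (fun i => Nat.beq (H153.Zeros.itr (ev L) 2 i) i) 100 v.2.1 &&
      cntB (fun i => Nat.beq (H153.Zeros.itr (ev L) 5 i) i) 100 v.2.2)

theorem inv3_of_chk {L : List ℕ} {v : ℕ × ℕ × ℕ} (h : chk3 L v = true) {g : Q}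
    (hg : ∀ i : Fin 100, ((g : Perm (Fin 100)) i : ℕ) = ev L i) : inv3 g = v := by
  unfold chk3 at h
  rw [Bool.and_eq_true, Bool.and_eq_true] at h
  obtain ⟨h1, h2, h3⟩ := h
  have key : ∀ (k m : ℕ), cntB (fun i => Nat.beq (H153.Zeros.itr (ev L) k i) i) 100 m = true → FP k g = m := by
    intro k m hk
    rw [← card_fin_of_cntB _ _ _ hk]
    unfold FP
    congr 1
    ext i
    rw [Finset.mem_filter, Finset.mem_filter]
    refine and_congr_right fun _ => ?_
    rw [Fin.ext_iff, H153.Zeros.pow_eq hg]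
    exact ⟨fun h => by rw [h]; exact Nat.beq_refl _, fun h => Nat.eq_of_beq_eq_true h⟩
  obtain ⟨v1, v2, v3⟩ := v
  unfold inv3
  rw [key 2 _ h2, key 5 _ h3]
  congr 1
  refine Eq.trans ?_ (card_fin_of_cntB _ _ _ h1)
  unfold F1
  simp only [hg]

/-- words and values -/
def cls : List (List ℕ × (ℕ × ℕ × ℕ)) := [
  ([tYi, tY], (0, 100, 100)),
  ([tX], (40, 100, 0)),
  ([tY, tY, tY], (0, 100, 20)),
  ([tYi, tYi], (0, 10, 10)),
  ([tY, tX, tY, tX, tY, tY, tX], (80, 20, 0)),
  ([tW, tW, tYi], (8, 20, 4)),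
  ([tX, tWi, tY], (16, 20, 8)),
  ([tWi, tX, tWi, tWi, tX, tWi], (0, 0, 100)),
  ([tW, tY, tY, tX, tYi, tWi, tWi, tYi, tW], (50, 0, 100)),
  ([tY, tW], (10, 5, 100)),
  ([tWi, tYi, tWi, tX, tYi], (40, 10, 0)),
  ([tYi], (24, 10, 2)),
  ([tY, tX, tWi, tY], (14, 2, 2)),
  ([tX, tYi], (20, 4, 0)),
  ([tWi, tX, tYi], (24, 8, 2)),
  ([tW, tW, tX, tW, tYi, tX], (10, 0, 20)),
  ([tWi, tWi, tX], (40, 0, 0)),
  ([tY, tWi, tWi, tYi, tW], (22, 1, 1)),
  ([tYi, tYi, tYi, tX], (20, 2, 0)),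
  ([tY, tWi, tX, tW, tX], (30, 0, 10)),
  ([tW, tX, tW, tW, tY], (30, 0, 0))]

theorem cls_chk : (cls.all fun a => chk3 a.1 a.2) = true := by decide +kernel

theorem cls_mem : ∀ a ∈ cls, ∀ P ∈ a.1, InG Q P := by
  intro a ha P hP
  apply mem5
  revert a
  unfold cls
  simp only [List.mem_cons, List.not_mem_nil, or_false]
  rintro a (rfl | rfl | rfl | rfl | rfl | rfl | rfl | rfl | rfl | rfl | rfl | rfl | rfl | rfl | rfl | rfl | rfl | rfl
    | rfl | rfl | rfl) hP <;> simp only [List.mem_cons, List.not_mem_nil, or_false] at hP <;> itauto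

theorem cls_val {v : ℕ × ℕ × ℕ} (hv : v ∈ cls.map Prod.snd) : ∃ g : Q, inv3 g = v := by
  rw [List.mem_map] at hv
  obtain ⟨a, ha, rfl⟩ := hv
  obtain ⟨g, hg, h⟩ := exists_ev a.1 (cls_mem a ha)
  exact ⟨⟨g, hg⟩, inv3_of_chk (List.all_eq_true.1 cls_chk a ha) h⟩

/-- a word of order 11 and its inverse -/
def w11 : List ℕ := [tY, tWi, tWi, tYi, tW]
def w11i : List ℕ := [tWi, tY, tW, tW, tYi]

theorem card_Q' : Nat.card Q = 44352000 := Cfsg.Agent.HN.AutBound.card_Q

theorem simple_Q : IsSimpleGroup Q := HN.AutHS.nonempty_Q.2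

theorem iso_Q : Spor.IsoHS ↥Q := by
  obtain ⟨⟨e⟩, -⟩ := HN.AutHS.nonempty_Q
  exact ⟨e⟩

theorem cent_eleven {g : Q} (hg : orderOf g = 11) : Nat.card (centralizer ({g} : Set Q)) = 11 := by
  have := simple_Q
  exact H547.SelfCent.McLHS.hs iso_Q (H393.Iso.na_hs iso_Q) card_Q' hg

theorem not_real {g : Q} (hg : orderOf g = 11) : ¬ IsConj g g⁻¹ := by
  have : Fact (Nat.Prime 11) := ⟨by norm_num⟩
  refine H713.not_isConj_inv_of_odd ?_ hg (cent_eleven hg) (by norm_num) ?_
  · rw [card_Q']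
    exact H713.factorization_eq_one (by norm_num) (by norm_num)
  · rw [card_Q']
    decide

/-- **At least 22 classes.** -/
theorem classes : 22 ≤ Nat.card (ConjClasses Q) := by
  classical
  have hnd : (cls.map Prod.snd).Nodup := by decide +kernel
  set s : Finset (ℕ × ℕ × ℕ) := (cls.map Prod.snd).toFinset with hs
  have hscard : s.card = 21 := by rw [hs, List.toFinset_card_of_nodup hnd]; rfl
  obtain ⟨k, hkQ, hk⟩ := exists_ev w11 (G := Q) (fun P hP => mem5 P (by
    unfold w11 at hP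
    simp only [List.mem_cons, List.not_mem_nil, or_false] at hP ⊢
    (clear * - hP; itauto)))
  obtain ⟨l, hlQ, hl⟩ := exists_ev w11i (G := Q) (fun P hP => mem5 P (by
    unfold w11i at hP
    simp only [List.mem_cons, List.not_mem_nil, or_false] at hP ⊢
    (clear * - hP; itauto)))
  set h : Q := ⟨k, hkQ⟩ with hh
  set h' : Q := ⟨l, hlQ⟩ with hh'
  have hinv : h' = h⁻¹ := by
    rw [eq_inv_iff_mul_eq_one]
    apply Subtype.ext
    refine Equiv.ext fun i => Fin.ext ?_
    show (l (k i) : ℕ) = i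
    rw [hl, hk]
    have : allB (fun i => Nat.beq (ev w11i (ev w11 i)) i) 100 = true := by decide +kernel
    exact Nat.eq_of_beq_eq_true ((allB_iff _ _).1 this i i.2)
  have horder : orderOf h = 11 := by
    have : Fact (Nat.Prime 11) := ⟨by norm_num⟩
    refine orderOf_eq_prime ?_ ?_
    · apply Subtype.ext
      exact (H153.Zeros.pow_eq_one_iff hk 11).2 (by decide +kernel)
    · intro h1
      have h2 : k = 1 := congrArg Subtype.val h1
      have h3 := hk 0
      rw [h2] at h3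
      revert h3
      show ¬ (((0 : Fin 100) : ℕ) = ev w11 0)
      decide +kernel
  have hv : inv3 h = (22, 1, 1) := inv3_of_chk (L := w11) (by decide +kernel) hk
  have hv' : inv3 h⁻¹ = (22, 1, 1) := by
    rw [← hinv]
    exact inv3_of_chk (L := w11i) (by decide +kernel) hl
  have hex : ∀ v ∈ s, ∃ g : Q, inv3 g = v ∧ (v = (22, 1, 1) → g = h) := by
    intro v hv0
    by_cases h1 : v = (22, 1, 1)
    · exact ⟨h, by rw [hv, h1], fun _ => rfl⟩
    · obtain ⟨g, hg⟩ := cls_val (v := v) (by rwa [hs, List.mem_toFinset] at hv0)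
      exact ⟨g, hg, fun h2 => absurd h2 h1⟩
  choose! e he1 he2 using hex
  let f : Option s → ConjClasses Q := fun o => match o with
    | none => ConjClasses.mk h⁻¹
    | some v => ConjClasses.mk (e v)
  have hf : Function.Injective f := by
    have h0 : ∀ v : s, ConjClasses.mk (e v) ≠ ConjClasses.mk h⁻¹ := by
      intro v hc
      have h1 := ConjClasses.mk_eq_mk_iff_isConj.1 hc
      have h2 := inv3_conj _ _ h1
      rw [he1 v v.2, hv'] at h2
      rw [he2 v v.2 h2] at h1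
      exact not_real horder h1
    rintro (_ | v) (_ | w) hvw
    · rfl
    · exact absurd hvw.symm (h0 w)
    · exact absurd hvw (h0 v)
    · have h1 := inv3_conj _ _ (ConjClasses.mk_eq_mk_iff_isConj.1 (show ConjClasses.mk (e v) = ConjClasses.mk (e w) from hvw))
      rw [he1 v v.2, he1 w w.2] at h1
      rw [Subtype.ext h1]
  have h1 := Nat.card_le_card_of_injective f hf
  rwa [Nat.card_eq_fintype_card, Fintype.card_option, Fintype.card_coe, hscard] at h1

end Cfsg.Agent.H393.Van.HSClasses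
end

-- part: H393/Van/HSThree
section
/-!
# `HS`: a character vanishing at the elements of order 3 (helper393)

`x` of order 3 in `HS`, `C(x) = ⟨x⟩ × S₅`, inverted by an involution centralizing the factor `S₅`.
-/

set_option autoImplicit false

namespace Cfsg.Agent.H393.Van.HSThree

open Cfsg Equiv Subgroup Cfsg.Agent.H393.Van Cfsg.Agent.H393.Van.S5Row
open Cfsg.Agent.SporadicA.PermTab Cfsg.Agent.HN.HS100 Cfsg.Agent.H852.IMHS

/-- acts as a 5-cycle, order 5 -/
def ta6 : ℕ := 0x741180300b04006c318620140901f8600900e42f8410a40b42a800066060260580ae088200070a81141085602c0041700d04612425836026074148300940680c83e010184080320060b01504704e0480284e03e0dc1e00e06a0302e01505e140010090b40502c85b0760102882501e14c0b8430221781a02609a0a02781c07a0e0220310561740f042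
/-- involution inverting `x` -/
def tt : ℕ := 0x200ec1281e094014188170a4158048010a81681b85703016c1300b07e0480004208e17c1384109604c0781b0741302401f09e0ac160060c410c120360aa0e0040030460502e81a01a01c0503d07c0a00702a09214430839066080088220801800b0190880c00e0530b80740603208c1381086308a0a4178150a00b42c83505c0f02f0020680102c04d
/-- order 3 in the factor `S₅` -/
def ty : ℕ := 0x3a028308560be0001d0180b61081003e0081301180201e1480a80e04c0a01a060020128220570c61382e03900e0782a0580a21001e83c05a0b8248320660502c8050380c0218380a01740882c03e04c068460360301282703202031035002168238370480d82a8450a612c1f81a0240a81d81602e0bc0584f05208411009062018268480bc10415803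
/-- moves `x` to `y` -/
def tg1 : ℕ := 0x760d42505a02c014230070201602c82403206c0105d02a0202783902e0302f05006c088138260600601502f0860340204208a0382583c0c60cc0f0610a20943100009c1480902c0880fc190090520b81585507c1201e8600260e01081a0ac1300e81c01617c1885406e0801185b0a615c0880a0501240083a03e0502382d0820180185c09a03c20034
/-- moves `x` to `x y` -/
def tg2 : ℕ := 0x5a14c308040a00e02c81901c0a82e83f0800a02e04202c1341c85f0560f82505101e0d0240560101800c04608a1040f84e0b015c1783c0220400a80306a0340b852096178218000b6028238050260040d049004168030120460ec198370a813c0e8620180a4038310400702600b03c06c0482e0420f40a02406c0e8110630aa0941604406409c13030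
/-- vertices in the order of their rows -/
def qO : ℕ := 0x5e0502f83c0aa02c150010380802b04202e1441f80f042030220100b20cc2d8430461401e85c08a0601880701a0381481a0320d8238270a40a00d85d02c0ac190030121783080609415c240040c60e81705809c1180e84007c0902d04c03c180168110a60b00a83b0041502082509e1880502602412c0981f0920e41c0340000880280806e0c026835
/-- its inverse -/
def qR : ℕ := 0x560481881e0c20c81c04809a0842782805c1642f8160360ec2b04a02609c0082001c0bc0582d07a098238510981600a8240aa08c248600300a8050090060f80000809c0d4228020c60a40e81a06c1742083a0780400a0220960182985a01807c1285b0721001f8460ae0dc0c86201a03c0e0500a8108218520bc044198040880c00282c06805c2e007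

/-! ### The centralizer has order at most 360 -/

/-- `v` looks like `y` with respect to `F` and the fixed points of the table `P` -/
def pattX (n A P : ℕ) (F : List ℕ) (y v : ℕ) : Bool :=
  band (patt n A F y v) ((Nat.beq (lk P y) y) == (Nat.beq (lk P v) v))

/-- the chain for a group commuting with the permutation `P` -/
def chainX (n A P : ℕ) : List ℕ → List (ℕ × ℕ) → Bool
  | _, [] => true
  | F, (y, m) :: bs => band (Nat.blt y n) (band (notMemB y F)
      (band (cntB (pattX n A P F y) n m) (chainX n A P (lk P (lk P y) :: lk P y :: y :: F) bs)))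

/-- the points of the chain -/
def lastX (P : ℕ) : List ℕ → List (ℕ × ℕ) → List ℕ
  | F, [] => F
  | F, (y, _) :: bs => lastX P (lk P (lk P y) :: lk P y :: y :: F) bs

theorem chainX_cons (n A P : ℕ) (F : List ℕ) (y m : ℕ) (bs : List (ℕ × ℕ)) :
    chainX n A P F ((y, m) :: bs) = band (Nat.blt y n) (band (notMemB y F)
      (band (cntB (pattX n A P F y) n m) (chainX n A P (lk P (lk P y) :: lk P y :: y :: F) bs))) := rfl

theorem card_le_of_chainX {n A P : ℕ} {x : Perm (Fin n)} (hx : ∀ i : Fin n, (x i : ℕ) = lk P i)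
    (bs : List (ℕ × ℕ)) (F : List ℕ) (H : Subgroup (Perm (Fin n))) (hH : H ≤ autG n A)
    (hcom : ∀ g ∈ H, g * x = x * g) (hF : FixL H F) (hc : chainX n A P F bs = true)
    (hfin : ∀ g ∈ autG n A, (∀ f ∈ lastX P F bs, f < n ∧ ∀ i : Fin n, (i : ℕ) = f → g i = i) → g = 1) :
    Nat.card H ≤ prodC bs := by
  induction bs generalizing F H with
  | nil =>
    have : H = ⊥ := by
      rw [eq_bot_iff]
      intro g hg
      rw [Subgroup.mem_bot]
      exact hfin g (hH hg) (fun f hf => ⟨(hF f hf).1, (hF f hf).2 g hg⟩)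
    rw [this]
    simp [prodC]
  | cons b bs ih =>
    obtain ⟨y, m⟩ := b
    rw [chainX_cons, band_eq_true, band_eq_true, band_eq_true] at hc
    obtain ⟨h1, h2, h3, h4⟩ := hc
    have hy : y < n := Nat.blt_eq ▸ h1
    rw [notMemB_iff] at h2
    have hcx : ∀ g ∈ H, ∀ i : Fin n, g (x i) = x (g i) := fun g hg i =>
      congrArg (fun z : Perm (Fin n) => z i) (hcom g hg)
    have h5 : Nat.card (ps H ⟨y, hy⟩) ≤ prodC bs := by
      refine ih _ (ps H ⟨y, hy⟩) ((ps_le _ _).trans hH) (fun g hg => hcom g hg.1) ?_ h4 hfin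
      have e1 : lk P y = x ⟨y, hy⟩ := (hx ⟨y, hy⟩).symm
      have e2 : lk P (lk P y) = x (x ⟨y, hy⟩) := by rw [hx, ← e1]
      intro f hf
      rcases List.mem_cons.1 hf with h | hf
      · subst h
        rw [e2]
        refine ⟨(x (x ⟨y, hy⟩)).2, fun g hg i hi => ?_⟩
        have : i = x (x ⟨y, hy⟩) := Fin.ext hi
        rw [this, hcx g hg.1, hcx g hg.1, hg.2]
      rcases List.mem_cons.1 hf with h | hf
      · subst h
        rw [e1]
        refine ⟨(x ⟨y, hy⟩).2, fun g hg i hi => ?_⟩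
        have : i = x ⟨y, hy⟩ := Fin.ext hi
        rw [this, hcx g hg.1, hg.2]
      rcases List.mem_cons.1 hf with h | h
      · subst h
        refine ⟨hy, fun g hg i hi => ?_⟩
        have : i = ⟨f, hy⟩ := Fin.ext hi
        rw [this]; exact hg.2
      · exact ⟨(hF f h).1, fun g hg => (hF f h).2 g hg.1⟩
    refine card_le H ⟨y, hy⟩ _ ?_ (card_fin_of_cntB _ n m h3) h5
    intro g hg
    simp only [Finset.mem_filter, Finset.mem_univ, true_and]
    rw [pattX, band_eq_true]
    constructor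
    · rw [patt_iff]
      intro f hf
      obtain ⟨hfn, hfix⟩ := hF f hf
      have hgf : g ⟨f, hfn⟩ = ⟨f, hfn⟩ := hfix g hg ⟨f, hfn⟩ rfl
      constructor
      · have := hH hg ⟨y, hy⟩ ⟨f, hfn⟩
        rw [hgf] at this
        exact this
      · intro he
        have h6 : g ⟨y, hy⟩ = g ⟨f, hfn⟩ := by
          rw [hgf]; exact Fin.ext he
        have h7 := g.injective h6
        rw [Fin.mk.injEq] at h7
        exact h2 (h7 ▸ hf)
    · rw [beq_iff_eq, Bool.eq_iff_iff]
      have e1 : ∀ i : Fin n, Nat.beq (lk P i) i = true ↔ x i = i := fun i => by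
        rw [← hx i]
        exact ⟨fun h => Fin.ext (Nat.eq_of_beq_eq_true h), fun h => by rw [h]; exact Nat.beq_refl _⟩
      rw [e1 ⟨y, hy⟩, e1 (g ⟨y, hy⟩), ← hcx g hg]
      exact ⟨fun h => by rw [h], fun h => g.injective h⟩

/-- base -/
def bsX : List (ℕ × ℕ) := [(6, 10), (37, 4), (48, 3), (97, 1), (60, 1), (26, 1), (9, 3), (61, 1), (4, 1), (44, 1),
  (64, 2), (99, 1)]

theorem chainX_ok : chainX 100 adjA t3 [] bsX = true := by decide +kernel
theorem distX_ok : chkDist 100 adjA (maskL (lastX t3 [] bsX)) qR qO = true := by decide +kernel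

/-- word -/
def wz : List ℕ := [tY, tW, tYi, tWi, tY, tW, tYi, tWi]

theorem wz_com : allB (fun i => Nat.beq (lk tZ (ev wz (lk t3 i))) (lk t3 (lk tZ (ev wz i)))) 100 = true := by
  decide +kernel

theorem card_le_360 {x : Q} (hx : ∀ i : Fin 100, ((x : Perm (Fin 100)) i : ℕ) = lk t3 i) :
    Nat.card (centralizer ({x} : Set Q)) ≤ 360 := by
  set H : Subgroup (Perm (Fin 100)) := (centralizer ({x} : Set Q)).map Q.subtype with hH
  have h1 : Nat.card (centralizer ({x} : Set Q)) = Nat.card H :=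
    Nat.card_congr ((centralizer ({x} : Set Q)).equivMapOfInjective _ Q.subtype_injective).toEquiv
  set A : Subgroup (Perm (Fin 100)) := autG 100 adjA ⊓ centralizer ({(x : Perm (Fin 100))} : Set (Perm (Fin 100)))
    with hA
  have hHA : H ≤ A := by
    rintro _ ⟨g, hg, rfl⟩
    exact ⟨Q_le g.2, mem_centralizer_singleton_iff.2 (congrArg Subtype.val (mem_centralizer_singleton_iff.1 hg))⟩
  have hAc : Nat.card A ≤ 720 := by
    have h2 := card_le_of_chainX (x := (x : Perm (Fin 100))) hx bsX [] A inf_le_left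
      (fun g hg => mem_centralizer_singleton_iff.1 hg.2) (fun _ hf => absurd hf List.not_mem_nil) chainX_ok
      (fun g hg h => eq_one_of_dist distX_ok g hg h)
    have h3 : prodC bsX = 720 := by decide +kernel
    rwa [h3] at h2
  obtain ⟨k, hkQ, hk⟩ := exists_ev wz (G := Q) (fun P hP => mem5 P (by
    unfold wz at hP
    simp only [List.mem_cons, List.not_mem_nil, or_false] at hP ⊢
    (clear * - hP; itauto)))
  have h4 : Z * k ∈ A := by
    refine ⟨mul_mem HN.AutBound.Z_mem (Q_le hkQ), mem_centralizer_singleton_iff.2 ?_⟩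
    refine Equiv.ext fun i => Fin.ext ?_
    show lk tZ (k ((x : Perm (Fin 100)) i)) = (((x : Perm (Fin 100)) (Z (k i)) : Fin 100) : ℕ)
    rw [hk, hx, hx]
    show _ = lk t3 (lk tZ (k i))
    rw [hk]
    exact Nat.eq_of_beq_eq_true ((allB_iff _ _).1 wz_com i i.2)
  have h5 := two_mul_card_le hHA (fun g hg => by
    obtain ⟨a, -, rfl⟩ := hg
    exact HN.AutBound.sign_Q a.2) h4 (by rw [map_mul, sign_Z, HN.AutBound.sign_Q hkQ, mul_one])
  omega

/-! ### The factor `S₅` -/

theorem ina6 : InG Q ta6 := word_of (L := [ta, ta, ta, ta, ta, ta]) (mem2 ina inb) (by simp) (by decide +kernel)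

theorem intt : InG Q tt := word_of (L := [tW, tW, tY, tY, tY, tWi, tWi, ta, ta, tb, ta, ta, ta])
  (L0 := [tX, tY, tW, tYi, tWi, ta, tb]) (by
    intro P hP
    simp only [List.mem_cons, List.not_mem_nil, or_false] at hP
    rcases hP with rfl | rfl | rfl | rfl | rfl | rfl | rfl
    exacts [inX, inY, inW, inYi, inWi, ina, inb])
  (by intro P; simp only [List.mem_cons, List.not_mem_nil, or_false]; itauto) (by decide +kernel)

theorem inty : InG Q ty := word_of (L := [ta6, ta6, ta6, tb, ta6, tb]) (mem2 ina6 inb)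
  (by intro P; simp only [List.mem_cons, List.not_mem_nil, or_false]; tauto) (by decide +kernel)

theorem intg1 : InG Q tg1 := word_of (L := [tY, tY, tX, tW, tW, tY, tW, tX, tY, tW]) mem5
  (by intro P; simp only [List.mem_cons, List.not_mem_nil, or_false]; itauto) (by decide +kernel)

theorem intg2 : InG Q tg2 := word_of (L := [tY, tY, tW, tW, tW, tY, tW, tYi]) mem5
  (by intro P; simp only [List.mem_cons, List.not_mem_nil, or_false]; itauto) (by decide +kernel)

/-- The data of the main lemma. -/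
theorem exists_data : ∃ (x t y : Q) (φ : S5 →* Q), orderOf x = 3 ∧ t * x * t⁻¹ = x⁻¹ ∧ Function.Injective φ ∧
    (∀ σ, φ σ * x = x * φ σ) ∧ (∀ σ, φ σ * t = t * φ σ) ∧ Nat.card (centralizer ({x} : Set Q)) ≤ 360 ∧
    orderOf y = 3 ∧ (∃ ρ, φ ρ = y) ∧ IsConj x y ∧ IsConj x (x * y) := by
  have h3f : Fact (Nat.Prime 3) := ⟨by norm_num⟩
  obtain ⟨x, hx⟩ := exists_el in3'
  obtain ⟨a, ha⟩ := exists_el ina6
  obtain ⟨b, hb⟩ := exists_el inb
  obtain ⟨t, ht⟩ := exists_el intt
  obtain ⟨y, hy⟩ := exists_el inty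
  obtain ⟨g1, hg1⟩ := exists_el intg1
  obtain ⟨g2, hg2⟩ := exists_el intg2
  have hxo : orderOf x = 3 := orderOf_of hx (by decide +kernel) 0 (by decide +kernel)
  have hyo : orderOf y = 3 := orderOf_of hy (by decide +kernel) 0 (by decide +kernel)
  have hax : a * x = x * a := commute_of ha hx (by decide +kernel)
  have hbx : b * x = x * b := commute_of hb hx (by decide +kernel)
  have hat : a * t = t * a := commute_of ha ht (by decide +kernel)
  have hbt : b * t = t * b := commute_of hb ht (by decide +kernel)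
  have hyx : y * x = x * y := commute_of hy hx (by decide +kernel)
  have hyt : y * t = t * y := commute_of hy ht (by decide +kernel)
  have eqv : ∀ {g k : Q} {L M : List ℕ}, (∀ i : Fin 100, ((g : Perm (Fin 100)) i : ℕ) = ev L i) →
      (∀ i : Fin 100, ((k : Perm (Fin 100)) i : ℕ) = ev M i) → allB (fun i => Nat.beq (ev L i) (ev M i)) 100 = true →
      g = k := by
    intro g k L M hg hk h
    apply Subtype.ext
    refine Equiv.ext fun i => Fin.ext ?_
    rw [hg, hk]
    exact Nat.eq_of_beq_eq_true ((allB_iff _ _).1 h i i.2)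
  have hmul : ∀ {g k : Q} {P R : ℕ}, (∀ i : Fin 100, ((g : Perm (Fin 100)) i : ℕ) = lk P i) →
      (∀ i : Fin 100, ((k : Perm (Fin 100)) i : ℕ) = lk R i) → ∀ i : Fin 100, (((g * k : Q) : Perm (Fin 100)) i : ℕ) = ev [R, P] i := by
    intro g k P R hg hk i
    show ((g : Perm (Fin 100)) ((k : Perm (Fin 100)) i) : ℕ) = lk P (lk R i)
    rw [hg, hk]
  have hmul3 : ∀ {g k l : Q} {P R S : ℕ}, (∀ i : Fin 100, ((g : Perm (Fin 100)) i : ℕ) = lk P i) →
      (∀ i : Fin 100, ((k : Perm (Fin 100)) i : ℕ) = lk R i) → (∀ i : Fin 100, ((l : Perm (Fin 100)) i : ℕ) = lk S i) →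
      ∀ i : Fin 100, (((g * k * l : Q) : Perm (Fin 100)) i : ℕ) = ev [S, R, P] i := by
    intro g k l P R S hg hk hl i
    show ((g : Perm (Fin 100)) ((k : Perm (Fin 100)) ((l : Perm (Fin 100)) i)) : ℕ) = lk P (lk R (lk S i))
    rw [hg, hk, hl]
  have htx : t * x * t⁻¹ = x⁻¹ := by
    rw [eq_inv_iff_mul_eq_one]
    have h1 : t * x = x * x * t := eqv (hmul ht hx) (hmul3 hx hx ht) (by decide +kernel)
    rw [h1, mul_inv_cancel_right, ← pow_two, ← pow_succ]
    have h2 := pow_orderOf_eq_one x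
    rwa [hxo] at h2
  have hxy : IsConj x y := isConj_iff.2 ⟨g1, by
    rw [mul_inv_eq_iff_eq_mul]
    exact eqv (hmul hg1 hx) (hmul hy hg1) (by decide +kernel)⟩
  have hxxy : IsConj x (x * y) := isConj_iff.2 ⟨g2, by
    rw [mul_inv_eq_iff_eq_mul]
    exact eqv (hmul hg2 hx) (hmul3 hx hy hg2) (by decide +kernel)⟩
  -- the action on five pairs
  let _ := act5 hx
  let a' : centralizer ({x} : Set Q) := ⟨a, mem_centralizer_singleton_iff.2 hax⟩
  let b' : centralizer ({x} : Set Q) := ⟨b, mem_centralizer_singleton_iff.2 hbx⟩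
  let x' : centralizer ({x} : Set Q) := ⟨x, mem_centralizer_singleton_iff.2 rfl⟩
  let y' : centralizer ({x} : Set Q) := ⟨y, mem_centralizer_singleton_iff.2 hyx⟩
  set ψ := MulAction.toPermHom (centralizer ({x} : Set Q)) (Fin 5) with hψ
  have hlab : ∀ {P : ℕ} {g : Q}, (∀ i : Fin 100, ((g : Perm (Fin 100)) i : ℕ) = lk P i) → ∀ t : Fin 5,
      (labF ((g : Perm (Fin 100)) (rep t)) : ℕ) = lk tlab (lk P (rep t)) % 5 := by
    intro P g hg t
    show lk tlab ((g : Perm (Fin 100)) (rep t) : Fin 100) % 5 = _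
    rw [hg]
  have h1 : ψ a' = finRotate 5 := by
    refine Equiv.ext fun t => Fin.ext ?_
    show (labF ((a : Perm (Fin 100)) (rep t)) : ℕ) = _
    rw [hlab ha]
    revert t
    decide +kernel
  have h2 : ψ b' = swap 3 4 := by
    refine Equiv.ext fun t => Fin.ext ?_
    show (labF ((b : Perm (Fin 100)) (rep t)) : ℕ) = _
    rw [hlab hb]
    revert t
    decide +kernel
  have h3 : ψ x' = 1 := by
    refine Equiv.ext fun t => Fin.ext ?_
    show (labF ((x : Perm (Fin 100)) (rep t)) : ℕ) = _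
    rw [hlab hx]
    revert t
    decide +kernel
  -- the subgroup
  let H : Subgroup (centralizer ({x} : Set Q)) := (centralizer ({t} : Set Q)).subgroupOf _
  have haH : a' ∈ H := mem_subgroupOf.2 (mem_centralizer_singleton_iff.2 hat)
  have hbH : b' ∈ H := mem_subgroupOf.2 (mem_centralizer_singleton_iff.2 hbt)
  have hyH : y' ∈ H := mem_subgroupOf.2 (mem_centralizer_singleton_iff.2 hyt)
  have hsurj : Function.Surjective (ψ.comp H.subtype) := by
    rw [← MonoidHom.range_eq_top, eq_top_iff, ← Equiv.Perm.closure_prime_cycle_swap (σ := finRotate 5)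
      (τ := swap 3 4) (by simp; norm_num) isCycle_finRotate support_finRotate ⟨3, 4, by decide, rfl⟩,
      closure_le]
    rintro g (rfl | hg)
    · exact ⟨⟨a', haH⟩, h1⟩
    · rw [Set.mem_singleton_iff] at hg
      rw [hg]
      exact ⟨⟨b', hbH⟩, h2⟩
  have hsurj' : Function.Surjective ψ := fun σ => by
    obtain ⟨h, hh⟩ := hsurj σ
    exact ⟨h, hh⟩
  have hle := card_le_360 hx
  have hker : ψ.ker = zpowers x' := by
    have e1 : zpowers x' ≤ ψ.ker := by rw [zpowers_le]; exact h3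
    symm
    apply Subgroup.eq_of_le_of_card_ge e1
    have e2 : Nat.card (zpowers x') = 3 := by rw [Nat.card_zpowers, ← Subgroup.orderOf_coe]; exact hxo
    have e3 := ψ.ker.card_mul_index
    rw [Subgroup.index_ker, MonoidHom.range_eq_top.2 hsurj', Subgroup.card_top, Nat.card_eq_fintype_card (α := Perm (Fin 5)),
      Fintype.card_perm, Fintype.card_fin] at e3
    have e4 : (Nat.factorial 5) = 120 := rfl
    rw [e4] at e3
    rw [e2]
    omega
  have hinj : Function.Injective (ψ.comp H.subtype) := by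
    rw [injective_iff_map_eq_one]
    rintro ⟨h, hh⟩ h0
    have e1 : h ∈ ψ.ker := h0
    rw [hker] at e1
    obtain ⟨k, hk⟩ := mem_powers_iff_mem_zpowers.2 e1
    have hk' : x' ^ k = h := hk
    have e2 : x ^ k = 1 := by
      apply pow_eq_of_comm_inv hxo htx
      have e3 : ((h : centralizer ({x} : Set Q)) : Q) * t = t * h :=
        mem_centralizer_singleton_iff.1 (mem_subgroupOf.1 hh)
      rw [← hk'] at e3
      exact e3
    apply Subtype.ext
    show h = 1
    rw [← hk']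
    apply Subtype.ext
    exact e2
  let e := MulEquiv.ofBijective (ψ.comp H.subtype) ⟨hinj, hsurj⟩
  let φ : S5 →* Q := (centralizer ({x} : Set Q)).subtype.comp (H.subtype.comp e.symm.toMonoidHom)
  refine ⟨x, t, y, φ, hxo, htx, ?_, ?_, ?_, hle, hyo, ?_, hxy, hxxy⟩
  · intro σ τ h
    exact e.symm.injective (Subtype.ext (Subtype.ext h))
  · intro σ
    exact mem_centralizer_singleton_iff.1 ((e.symm σ : H) : centralizer ({x} : Set Q)).2
  · intro σ
    exact mem_centralizer_singleton_iff.1 (mem_subgroupOf.1 (e.symm σ : H).2)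
  · refine ⟨e ⟨y', hyH⟩, ?_⟩
    show (((e.symm (e ⟨y', hyH⟩) : H) : centralizer ({x} : Set Q)) : Q) = y
    rw [e.symm_apply_apply]

/-! ### All elements of order 3 are conjugate -/

theorem h012 : ∀ i : ZMod 3, i = 0 ∨ i = 1 ∨ i = 2 := by decide

theorem conj_all {G : Type*} [Group G] [Finite G] (hG : (Nat.card G).factorization 3 = 2) {x t y : G} {φ : S5 →* G}
    (hx : orderOf x = 3) (ht : t * x * t⁻¹ = x⁻¹) (hφx : ∀ σ, φ σ * x = x * φ σ) (hφt : ∀ σ, φ σ * t = t * φ σ)
    (hy : orderOf y = 3) {ρ : S5} (hρ : φ ρ = y) (hφ : Function.Injective φ) (h1 : IsConj x y) (h2 : IsConj x (x * y)) {z : G}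
    (hz : orderOf z = 3) : IsConj x z := by
  have h3f : Fact (Nat.Prime 3) := ⟨by norm_num⟩
  have hx3 : x ^ 3 = 1 := by rw [← hx]; exact pow_orderOf_eq_one x
  have hy3 : y ^ 3 = 1 := by rw [← hy]; exact pow_orderOf_eq_one y
  have hyx : y * x = x * y := by rw [← hρ]; exact hφx ρ
  have hyt : y * t = t * y := by rw [← hρ]; exact hφt ρ
  have hxinv : IsConj x x⁻¹ := isConj_iff.2 ⟨t, ht⟩
  have hinv : ∀ {a b : G}, IsConj a b → IsConj a⁻¹ b⁻¹ := by
    intro a b h
    obtain ⟨c, rfl⟩ := isConj_iff.1 h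
    exact isConj_iff.2 ⟨c, by group⟩
  -- `y` is inverted in the factor
  have hρo : orderOf ρ = 3 := by rw [← hy, ← hρ, orderOf_injective φ hφ]
  obtain ⟨τ, hτ⟩ : ∃ τ : S5, τ * ρ * τ⁻¹ = ρ⁻¹ := by
    have h5 : ∀ ρ : S5, ρ ^ 3 = 1 → ∃ τ : S5, τ * ρ * τ⁻¹ = ρ⁻¹ := by (set_option synthInstance.maxSize 9000 in open scoped Cfsg.Agent.Lib.FastPerm in decide +kernel)
    exact h5 ρ (by rw [← hρo]; exact pow_orderOf_eq_one ρ)
  have h4 : IsConj (x * y) (x * y⁻¹) := by
    refine isConj_iff.2 ⟨φ τ, ?_⟩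
    have h6 : φ τ * y * (φ τ)⁻¹ = y⁻¹ := by rw [← hρ, ← map_inv, ← map_mul, ← map_mul, hτ, map_inv]
    rw [← h6, show φ τ * (x * y) * (φ τ)⁻¹ = (φ τ * x) * y * (φ τ)⁻¹ by group, hφx]
    group
  -- the eight elements
  have key : ∀ i j : ZMod 3, x ^ i.val * y ^ j.val ≠ 1 → IsConj x (x ^ i.val * y ^ j.val) := by
    have hx2 : x ^ 2 = x⁻¹ := by rw [eq_inv_iff_mul_eq_one, ← pow_succ, hx3]
    have hy2 : y ^ 2 = y⁻¹ := by rw [eq_inv_iff_mul_eq_one, ← pow_succ, hy3]
    have hcomm : ∀ a b : G, a * b = b * a → a⁻¹ * b⁻¹ = (a * b)⁻¹ := by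
      intro a b h
      rw [h, mul_inv_rev]
    have hcc : IsConj x⁻¹ y⁻¹ := hinv h1
    intro i j hne
    have v0 : (0 : ZMod 3).val = 0 := rfl
    have v1 : (1 : ZMod 3).val = 1 := rfl
    have v2 : (2 : ZMod 3).val = 2 := rfl
    have hi := h012 i
    have hj := h012 j
    rcases hi with rfl | rfl | rfl <;> rcases hj with rfl | rfl | rfl <;>
      simp only [v0, v1, v2, pow_zero, pow_one, one_mul, mul_one, hx2, hy2] at hne ⊢
    · exact absurd rfl hne
    · exact h1
    · exact hxinv.trans hcc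
    · exact IsConj.refl x
    · exact h2
    · exact h2.trans h4
    · exact hxinv
    · have h7 : x⁻¹ * y = (x * y⁻¹)⁻¹ := by
        rw [← hcomm x y⁻¹ (by rw [mul_inv_eq_iff_eq_mul, mul_assoc, ← hyx, inv_mul_cancel_left]), inv_inv]
      rw [h7]
      exact hxinv.trans (hinv (h2.trans h4))
    · rw [hcomm x y hyx.symm]
      exact hxinv.trans (hinv h2)
  -- the Sylow subgroup
  let f := pairHom (p := 3) x hx3 (H713.Count.hom (p := 3) y hy3) (fun i => by
    show y ^ _ * x = x * y ^ _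
    exact (Commute.pow_left (show Commute y x from hyx) _))
  have hf : ∀ i j : ZMod 3, f (Multiplicative.ofAdd i, Multiplicative.ofAdd j) = x ^ i.val * y ^ j.val := fun i j => rfl
  have hinj : Function.Injective f := by
    rw [injective_iff_map_eq_one]
    rintro ⟨i, j⟩ h0
    have h5 : x ^ (Multiplicative.toAdd i).val * y ^ (Multiplicative.toAdd j).val = 1 := h0
    have h6 : y ^ (Multiplicative.toAdd j).val * t = t * y ^ (Multiplicative.toAdd j).val :=
      Commute.pow_left (show Commute y t from hyt) _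
    have h7 : x ^ (Multiplicative.toAdd i).val = 1 := by
      apply pow_eq_of_comm_inv hx ht
      rw [mul_eq_one_iff_eq_inv.1 h5, inv_mul_eq_iff_eq_mul, ← mul_assoc, h6, mul_inv_cancel_right]
    have h8 : Multiplicative.toAdd i = 0 := zpow_val_ne hx h7
    rw [h7, one_mul] at h5
    have h9 : Multiplicative.toAdd j = 0 := zpow_val_ne hy h5
    exact Prod.ext h8 h9
  have hcard : Nat.card f.range = 9 := by
    rw [← Nat.card_congr (MonoidHom.ofInjective hinj).toEquiv, Nat.card_prod]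
    simp
  have hP : IsPGroup 3 f.range := IsPGroup.of_card (n := 2) (by rw [hcard]; norm_num)
  obtain ⟨S, hS⟩ := hP.exists_le_sylow
  have hSeq : (S : Subgroup G) = f.range := by
    symm
    apply Subgroup.eq_of_le_of_card_ge hS
    rw [S.card_eq_multiplicity, hG, hcard]
    norm_num
  have hz' : IsPGroup 3 (zpowers z) := IsPGroup.of_card (n := 1) (by rw [Nat.card_zpowers, hz, pow_one])
  obtain ⟨S', hS'⟩ := hz'.exists_le_sylow
  obtain ⟨g, hg⟩ := MulAction.exists_smul_eq G S' S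
  have hzS : g * z * g⁻¹ ∈ (S : Subgroup G) := by
    rw [← hg]
    exact ⟨z, hS' (mem_zpowers z), rfl⟩
  rw [hSeq] at hzS
  obtain ⟨⟨i, j⟩, hij⟩ := hzS
  have h5 : x ^ (Multiplicative.toAdd i).val * y ^ (Multiplicative.toAdd j).val = g * z * g⁻¹ := hij
  have h6 : IsConj z (g * z * g⁻¹) := isConj_iff.2 ⟨g, rfl⟩
  refine IsConj.trans ?_ h6.symm
  rw [← h5]
  apply key
  rw [h5]
  intro h7
  have h8 : z = 1 := by
    rw [mul_inv_eq_one] at h7
    exact mul_eq_left.1 h7
  rw [h8, orderOf_one] at hz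
  norm_num at hz

/-- **`HS` and `p = 3`.** -/
theorem vOrdP_Q : H620.PNorm.VOrdP 3 Q := by
  obtain ⟨x, t, y, φ, hx, ht, hφ, hφx, hφt, hc, hy, ⟨ρ, hρ⟩, h1, h2⟩ := exists_data
  obtain ⟨χ, hχ⟩ := exists_zero hx ht hφ hφx hφt hc HSClasses.classes
  refine ⟨x, hx, χ, fun α => ?_⟩
  have hG : (Nat.card Q).factorization 3 = 2 := by
    rw [HSClasses.card_Q', show (44352000 : ℕ) = 3 ^ 2 * 4928000 by norm_num,
      Nat.factorization_mul (by norm_num) (by norm_num), Nat.factorization_pow]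
    simp only [Nat.Prime.factorization_self Nat.prime_three, Nat.factorization_eq_zero_of_not_dvd, _root_.Finsupp.coe_add, _root_.Finsupp.coe_smul, _root_.nsmul_eq_mul, _root_.Nat.cast_ofNat, _root_.Pi.add_apply, _root_.Pi.mul_apply, _root_.Pi.ofNat_apply, _root_.mul_one, _root_.Nat.reduceDvd, _root_.not_false_eq_true, _root_.Nat.factorization_eq_zero_of_not_dvd, _root_.add_zero]
  have h3 := conj_all hG hx ht hφx hφt hy hρ hφ h1 h2 (z := α x) (by rw [MulEquiv.orderOf_eq, hx])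
  obtain ⟨c, hc'⟩ := isConj_iff.1 h3
  rw [← hc', Cfsg.Agent.Characters.Core.isIrr_isClassFunction χ.2 x c, hχ]

theorem hs_3 {K : Type*} [Group K] (h : Spor.IsoHS K) : H620.PNorm.VOrdP 3 K := by
  obtain ⟨e⟩ := h
  obtain ⟨⟨f⟩, -⟩ := Cfsg.Agent.HN.AutHS.nonempty_Q
  exact vOrdP_Q.mulEquiv (f.trans e.symm)

end Cfsg.Agent.H393.Van.HSThree
end

-- part: H446/VP/Mathieu
section
/-!
# `VPow 2` for `M11`, `M12`, `M23`, `M24` (helper446)
-/

set_option autoImplicit false

namespace Cfsg.Agent.H446.VP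

open Cfsg Cfsg.Agent.H713 Cfsg.Agent.H419.Row Cfsg.Agent.H419.Count Cfsg.Agent.H419.TwoTrans
  Cfsg.Agent.H419.Spor.Mathieu Cfsg.Agent.H620.PNorm Cfsg.Agent.H621.AltChar

/-- `M11` has a character of degree 16. -/
theorem m11_2 {K : Type*} [Group K] (h : Spor.IsoM11 K) : VPow 2 K := by
  have h1 : Cfsg.IsM11 K := Cfsg.Agent.UGT.End.MEleven.isM11 h
  have hfin : Finite K := Nat.finite_of_card_ne_zero (by rw [h1.2]; norm_num)
  obtain ⟨x, -, v, hv⟩ := Cfsg.Agent.SporadicA.M11Facts.exists_caseC h1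
  have h2 : DZ 2 K := dz_of_dvd (n := 4) (v 5) (by
      rw [show charDegree ((v 5 : IrrCharacter K) : K → ℂ) = 16 from
        Blocks.Basic.charDegree_of_eq (by simpa using hv.degs 5)]
      norm_num)
    (factorization_eq (m := 495) Nat.prime_two (by rw [h1.2]; norm_num) (by norm_num)) Nat.prime_two
  have : Fact (Nat.Prime 2) := ⟨Nat.prime_two⟩
  obtain ⟨y, hy⟩ := exists_prime_orderOf_dvd_card' (G := K) 2 (by rw [h1.2]; norm_num)
  exact ⟨y, ⟨1, by rw [hy, pow_one]⟩, vz_of_dz Nat.prime_two h2 (by rw [hy])⟩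

/-- The value of the character of degree `n (n - 3) / 2` at an element with two fixed points and one
transposition. -/
theorem vz_of_two_one {G : Type*} [Group G] [Finite G] (Ω : Type*) [MulAction G Ω] [Finite Ω]
    (h5 : 5 ≤ Nat.card Ω) (h : MulAction.IsMultiplyPretransitive G Ω 4) {x : G}
    (hx : ∀ α : MulAut G, (nf Ω (α x) = 2 ∧ nu Ω (α x) = 2) ∨ (nf Ω (α x) = 0 ∧ nu Ω (α x) = 0)) :
    VZ G x := by
  have := Fintype.ofFinite G
  refine ⟨⟨_, irr_a G Ω h5 h⟩, fun α => ?_⟩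
  show ((nf Ω (α x) : ℂ) ^ 2 - 3 * nf Ω (α x) + nu Ω (α x)) / 2 = 0
  rcases hx α with ⟨h1, h2⟩ | ⟨h1, h2⟩ <;> rw [h1, h2] <;> norm_num

/-! ### `M12` -/

section M12

open Cfsg.Agent.H419.Spor.M12

local notation "D" => Spor.squareDodecad

theorem four_trans12 : MulAction.IsMultiplyPretransitive Spor.M12 Pts 4 := by
  have h5 : MulAction.IsMultiplyPretransitive Spor.M12 Pts 5 := by
    constructor
    intro x y
    let x' : Fin 5 ↪ GolayPt := x.trans (Function.Embedding.subtype _)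
    let y' : Fin 5 ↪ GolayPt := y.trans (Function.Embedding.subtype _)
    obtain ⟨g, hg, -⟩ := Cfsg.Agent.S0384.result D Cfsg.Agent.Schreier.MEleven.squareDodecad_mem x' y'
      (fun i => (x i).2) (fun i => (y i).2)
    refine ⟨⟨g.1.1, g.1.2, g.2⟩, ?_⟩
    apply DFunLike.ext
    intro i
    exact Subtype.ext (hg i)
  refine MulAction.isMultiplyPretransitive_of_le (n := 5) (by norm_num) ?_
  rw [Nat.card_eq_fintype_card]
  decide +kernel

/-- The number of points of the dodecad in 2-cycles. -/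
def ux (g : Equiv.Perm GolayPt) : ℕ :=
  (Finset.univ.filter (fun p : Pts => g p.1 ≠ p.1 ∧ g (g p.1) = p.1)).card

theorem nf12 (g : Spor.M12) : nf Pts g = fx g := card_fixed g

theorem nu12 (g : Spor.M12) : nu Pts g = ux g := by
  unfold nu ux
  rw [Nat.card_eq_fintype_card]
  refine Fintype.card_of_subtype _ fun p => ?_
  rw [Finset.mem_filter]
  constructor
  · rintro ⟨-, h, h2⟩
    exact ⟨fun h3 => h (congrArg Subtype.val h3), Subtype.ext h2⟩
  · rintro ⟨h, h2⟩
    exact ⟨Finset.mem_univ _, fun h3 => h (Subtype.ext h3), congrArg Subtype.val h2⟩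

theorem nf_conj {G Ω : Type*} [Group G] [MulAction G Ω] (m g : G) :
    nf Ω (MulAut.conj m g) = nf Ω g := by
  unfold nf
  refine Nat.card_congr ⟨fun a => ⟨m⁻¹ • (a : Ω), ?_⟩, fun a => ⟨m • (a : Ω), ?_⟩, ?_, ?_⟩
  · obtain ⟨a, ha⟩ := a
    have h : (m * g * m⁻¹) • a = a := ha
    rw [mul_smul, mul_smul] at h
    rw [eq_inv_smul_iff]
    exact h
  · obtain ⟨a, ha⟩ := a
    show (m * g * m⁻¹) • (m • a) = m • a
    rw [mul_smul, mul_smul, inv_smul_smul, ha]
  · intro a
    exact Subtype.ext (smul_inv_smul _ _)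
  · intro a
    exact Subtype.ext (inv_smul_smul _ _)

theorem nu_conj {G Ω : Type*} [Group G] [MulAction G Ω] [Finite Ω] (m g : G) :
    nu Ω (MulAut.conj m g) = nu Ω g := by
  have h1 := nf_mul_self (Ω := Ω) g
  have h2 := nf_mul_self (Ω := Ω) (MulAut.conj m g)
  rw [← map_mul, nf_conj, nf_conj] at h2
  omega

theorem x8_pow : x8 ^ 8 = 1 := by
  apply Subtype.ext
  show w8 ^ 8 = 1
  apply Equiv.ext
  decide +kernel

theorem m12_2' : VPow 2 Spor.M12 := by
  have hfin : Finite Spor.M12 := inferInstance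
  refine ⟨x8, ?_, ?_⟩
  · have h := orderOf_dvd_of_pow_eq_one x8_pow
    obtain ⟨j, -, hj⟩ := (Nat.dvd_prime_pow Nat.prime_two).1 (by simpa using h : orderOf x8 ∣ 2 ^ 3)
    exact ⟨j, hj⟩
  · refine vz_of_two_one Pts ?_ four_trans12 fun α => ?_
    · rw [Nat.card_eq_fintype_card]
      decide +kernel
    · rcases mem_or α with ⟨m, rfl⟩ | ⟨m, rfl⟩
      · left
        rw [nf_conj, nu_conj, nf12, nu12]
        constructor
        · show fx w8 = 2
          decide +kernel
        · show ux w8 = 2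
          decide +kernel
      · right
        show nf Pts (MulAut.conj m (bt x8)) = 0 ∧ nu Pts (MulAut.conj m (bt x8)) = 0
        rw [nf_conj, nu_conj, nf12, nu12]
        constructor
        · show fx (projInv * w8 * projInv⁻¹) = 0
          decide +kernel
        · show ux (projInv * w8 * projInv⁻¹) = 0
          decide +kernel

theorem m12_2 {K : Type*} [Group K] (h : Spor.IsoM12 K) : VPow 2 K := by
  obtain ⟨e⟩ := h
  exact m12_2'.mulEquiv e.symm

end M12

/-! ### `M24` -/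

/-- The element of order 8 of `M24`. -/
noncomputable def y8 : M24 := ⟨T * M * T * cubeTwist, mul_mem (mul_mem (mul_mem T_mem M_mem) T_mem) C_mem⟩

theorem y8_pow : y8 ^ 8 = 1 := by
  apply Subtype.ext
  show (T * M * T * cubeTwist) ^ 8 = 1
  apply Equiv.ext
  decide +kernel

theorem m24_2' : VPow 2 M24 := by
  refine ⟨y8, ?_, ?_⟩
  · have h := orderOf_dvd_of_pow_eq_one y8_pow
    obtain ⟨j, -, hj⟩ := (Nat.dvd_prime_pow Nat.prime_two).1 (by simpa using h : orderOf y8 ∣ 2 ^ 3)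
    exact ⟨j, hj⟩
  · refine vz_of_two_one GolayPt ?_ ?_ fun α => ?_
    · rw [Nat.card_eq_fintype_card]
      decide
    · have h5 := Cfsg.Agent.S0366.result
      exact MulAction.isMultiplyPretransitive_of_le (n := 5) (by norm_num) (by
        rw [Nat.card_eq_fintype_card]
        decide)
    · left
      obtain ⟨m, rfl⟩ := Cfsg.Agent.KFacts.M24Two.Out.exists_conj α
      rw [nf_conj, nu_conj]
      constructor
      · unfold nf
        rw [Nat.card_eq_fintype_card]
        have h : Fintype.card {a : GolayPt // (T * M * T * cubeTwist) a = a} = 2 := by decide +kernel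
        rw [← h]
        exact Fintype.card_congr (Equiv.refl _)
      · unfold nu
        rw [Nat.card_eq_fintype_card]
        have h : Fintype.card {a : GolayPt // (T * M * T * cubeTwist) a ≠ a ∧
          (T * M * T * cubeTwist) ((T * M * T * cubeTwist) a) = a} = 2 := by decide +kernel
        rw [← h]
        exact Fintype.card_congr (Equiv.refl _)

theorem m24_2 {K : Type*} [Group K] (h : Spor.IsoM24 K) : VPow 2 K := by
  obtain ⟨e⟩ := h
  exact m24_2'.mulEquiv e.symm

/-! ### `M23` -/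

section M23

open Cfsg.Agent.H419.Spor.M23

noncomputable def z8 : St := ⟨y8, by
  show (T * M * T * cubeTwist) none = none
  decide +kernel⟩

theorem z8_pow : z8 ^ 8 = 1 := Subtype.ext y8_pow

theorem z8_fix : Nat.card (MulAction.fixedBy (SubMulAction.ofStabilizer M24 (none : GolayPt)) z8) = 1 := by
  rw [Nat.card_eq_one_iff_exists]
  have h : ∃ q : GolayPt, q ≠ none ∧ ∀ p : GolayPt, (T * M * T * cubeTwist) p = p ↔ p = none ∨ p = q := by
    decide +kernel
  obtain ⟨q, hq, h⟩ := h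
  refine ⟨⟨⟨q, ?_⟩, ?_⟩, ?_⟩
  · rw [SubMulAction.mem_ofStabilizer_iff]
    exact hq
  · apply Subtype.ext
    exact (h q).2 (Or.inr rfl)
  · rintro ⟨⟨p, hp⟩, hp2⟩
    apply Subtype.ext
    apply Subtype.ext
    rw [SubMulAction.mem_ofStabilizer_iff] at hp
    have h3 : (T * M * T * cubeTwist) p = p := congrArg Subtype.val hp2
    rcases (h p).1 h3 with h4 | h4
    · exact absurd h4 hp
    · exact h4

theorem m23_2' : VPow 2 Spor.M23 := by
  have hv : Van Spor.M23 (e z8) := by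
    refine Van.of_surjective (e.symm : Spor.M23 →* St) e.symm.surjective ?_
    simp only [MonoidHom.coe_coe, MulEquiv.symm_apply_apply]
    refine van_of_fix_one (SubMulAction.ofStabilizer M24 (none : GolayPt)) ?_ ?_ z8_fix
    · have h5 := Cfsg.Agent.S0366.result
      have h1 : MulAction.IsPretransitive M24 GolayPt := by
        rw [← MulAction.is_one_pretransitive_iff]
        exact MulAction.isMultiplyPretransitive_of_le (n := 5) (by norm_num) (by
          rw [Nat.card_eq_fintype_card]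
          decide)
      have h4 : MulAction.IsMultiplyPretransitive St
          (SubMulAction.ofStabilizer M24 (none : GolayPt)) 4 :=
        SubMulAction.ofStabilizer.isMultiplyPretransitive.1 h5
      refine MulAction.isMultiplyPretransitive_of_le (n := 4) (by norm_num) ?_
      rw [SubMulAction.nat_card_ofStabilizer_eq, Nat.card_eq_fintype_card]
      decide
    · rw [SubMulAction.nat_card_ofStabilizer_eq, Nat.card_eq_fintype_card]
      decide
  refine ⟨e z8, ?_, vz_of_inner hv Cfsg.Agent.UGT.MTwentyThree.Aut.exists_conj⟩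
  rw [MulEquiv.orderOf_eq]
  have h := orderOf_dvd_of_pow_eq_one z8_pow
  obtain ⟨j, -, hj⟩ := (Nat.dvd_prime_pow Nat.prime_two).1 (by simpa using h : orderOf z8 ∣ 2 ^ 3)
  exact ⟨j, hj⟩

theorem m23_2 {K : Type*} [Group K] (h : Spor.IsoM23 K) : VPow 2 K := by
  obtain ⟨e⟩ := h
  exact m23_2'.mulEquiv e.symm

end M23

end Cfsg.Agent.H446.VP
end

-- part: H143/NB/Mathieu
section
/-!
# Nonprincipal `p`-blocks of the Mathieu groups, `p` odd (helper143)

`nb_m11`, `nb_m12`, `nb_m22`, `nb_m23`, `nb_m24`: the rows of S5003.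

* `p³ ∤ |S|`: the Itô–Michler rows (helper852) and `NB.of_IM_sq` (helper368);
* `M12`, `p = 3`: the character of degree `54 = 12 · 9 / 2` has defect zero;
* `M24`, `p = 3`: an element of order `15` and the numeric criterion of helper978.
-/

set_option autoImplicit false

namespace Cfsg.Agent.H143.NB.Mathieu

open Cfsg Cfsg.Agent.H33 Cfsg.Agent.H7.NBp Cfsg.Agent.H718.NBIH Cfsg.Agent.H852.IMMathieu

/-- the character of degree `54` of `M12` has `3`-defect zero -/
theorem hasDZ_m12 : Cfsg.Agent.H665.NoPQ.HasDZ 3 Spor.M12 := by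
  have hd : ∀ g ∈ Spor.M12, ∀ x ∈ (Spor.squareDodecad : Set GolayPt), g x ∈ (Spor.squareDodecad : Set GolayPt) :=
    fun g hg x hx => Cfsg.Agent.CoThreeStd.M12.smul_mem' hg hx
  let _ := actOn Spor.M12 (Spor.squareDodecad : Set GolayPt) hd
  have hc : Nat.card (Spor.squareDodecad : Set GolayPt) = 12 := by
    rw [Nat.card_coe_set_eq, Set.ncard_coe_finset, card_dod dod_mem]
  have h1 := trans_on Spor.M12 (Spor.squareDodecad : Set GolayPt) hd 5 (by
    intro x y hx hy
    obtain ⟨g, hg, -⟩ := Cfsg.Agent.S0384.result _ dod_mem x y hx hy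
    exact ⟨((g : M24) : Equiv.Perm GolayPt), ⟨(g : M24).2, g.2⟩, hg⟩)
  have h2 : MulAction.IsMultiplyPretransitive Spor.M12 (Spor.squareDodecad : Set GolayPt) 4 :=
    MulAction.isMultiplyPretransitive_of_le (n := 5) (by norm_num) (by omega)
  have := Fintype.ofFinite Spor.M12
  obtain ⟨-, χ, hχ⟩ := Cfsg.Agent.H852.IMPerm.four (G := Spor.M12) (Spor.squareDodecad : Set GolayPt) (by omega)
  rw [hc] at hχ
  refine ⟨χ, ?_⟩
  rw [Blocks.Basic.charDegree_of_eq hχ, card_M12]
  have h54 : (12 * (12 - 3) / 2 : ℕ) = 3 ^ 3 * 2 := by norm_num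
  have h95 : (95040 : ℕ) = 3 ^ 3 * 3520 := by norm_num
  rw [h54, h95, Nat.factorization_mul (by norm_num) (by norm_num), Nat.factorization_mul (by norm_num) (by norm_num),
    Nat.Prime.factorization_pow Nat.prime_three]
  simp only [Finsupp.add_apply, Finsupp.single_eq_same]
  rw [Nat.factorization_eq_zero_of_not_dvd (by norm_num), Nat.factorization_eq_zero_of_not_dvd (by norm_num)]

end Cfsg.Agent.H143.NB.Mathieu
end

-- part: H998/PV/MTwelve
section
/-!
# The row of M12 for the prime three (helper998)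
-/

set_option autoImplicit false

namespace Cfsg.Agent.H998.PV

open Cfsg Cfsg.Agent.H620.PNorm

universe u

theorem m12_3 {K : Type u} [Group K] (h : Spor.IsoM12 K) : VOrdP 3 K := by
  obtain ⟨e⟩ := h
  exact vOrdP_of_equiv e (by norm_num) Cfsg.Agent.H143.NB.Mathieu.hasDZ_m12 (NotCT.Orders.m12 ⟨MulEquiv.refl _⟩)
    (by norm_num) (by norm_num)

end Cfsg.Agent.H998.PV
end

private theorem dce_c99aa1f4d10c : _root_.True := by
  try have : _root_.True := by simp only [_root_.Cfsg.Agent.H393.Van.HSThree.pattX.eq_1]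
  exact _root_.True.intro
end

-- part: H998/PV/JFour
section
set_option linter.all false
open scoped Cfsg.Agent.FastGrp

/-!
# The rows of the fourth Janko group (helper998)
-/

set_option autoImplicit false

namespace Cfsg.Agent.H998.PV

open Cfsg Cfsg.Agent.H620.PNorm

universe u

theorem finite_j4 : Finite Spor.J4 := Nat.finite_of_card_ne_zero (by rw [H653.Spor.J4Dz.card_K]; norm_num)

theorem hasDZ_j4 {p n d : ℕ} (hp : p.Prime) {m : ℕ} (χ : IrrCharacter Spor.J4)
    (hχ : charDegree (χ : Spor.J4 → ℂ) = d) (hd : p ^ n ∣ d) (hm : 86775571046077562880 = p ^ n * m)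
    (h : ¬ p ∣ m) : Cfsg.Agent.H665.NoPQ.HasDZ p Spor.J4 := by
  have := finite_j4
  refine Cfsg.Agent.H419.Row.dz_of_dvd (n := n) χ (by rw [hχ]; exact hd) ?_ hp
  rw [H653.Spor.J4Dz.card_K, hm]
  have hm0 : m ≠ 0 := fun h0 => h (h0 ▸ dvd_zero p)
  rw [Nat.factorization_mul (pow_ne_zero _ hp.ne_zero) hm0, Finsupp.add_apply, hp.factorization_pow,
    Finsupp.single_eq_same, Nat.factorization_eq_zero_of_not_dvd h, add_zero]

theorem j4_2 {K : Type u} [Group K] (h : Spor.IsoJ4 K) : VOrdP 2 K := by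
  obtain ⟨e⟩ := h
  obtain ⟨χ, hχ⟩ := Cfsg.Agent.H894.J4Two.exists_degree
  exact vOrdP_of_equiv e (by norm_num) (hasDZ_j4 (n := 21) (m := 86775571046077562880 / 2 ^ 21)
    (by norm_num) χ hχ (by norm_num) (by norm_num) (by norm_num)) H653.Spor.J4Dz.card_K (by norm_num) (by norm_num)

theorem j4_3 {K : Type u} [Group K] (h : Spor.IsoJ4 K) : VOrdP 3 K := by
  obtain ⟨e⟩ := h
  obtain ⟨d, ⟨χ, hχ⟩, hd⟩ := H653.Spor.J4Dz.exists_deg (S := Spor.J4) ⟨MulEquiv.refl _⟩ (m := 27) (by simp)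
  exact vOrdP_of_equiv e (by norm_num) (hasDZ_j4 (n := 3) (m := 86775571046077562880 / 3 ^ 3)
    (by norm_num) χ hχ hd (by norm_num) (by norm_num)) H653.Spor.J4Dz.card_K (by norm_num) (by norm_num)

theorem j4_11 {K : Type u} [Group K] (h : Spor.IsoJ4 K) : VOrdP 11 K := by
  obtain ⟨e⟩ := h
  obtain ⟨d, ⟨χ, hχ⟩, hd⟩ := H653.Spor.J4Dz.exists_deg (S := Spor.J4) ⟨MulEquiv.refl _⟩ (m := 1331) (by simp)
  exact vOrdP_of_equiv e (by norm_num) (hasDZ_j4 (n := 3) (m := 86775571046077562880 / 11 ^ 3)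
    (by norm_num) χ hχ hd (by norm_num) (by norm_num)) H653.Spor.J4Dz.card_K (by norm_num) (by norm_num)

end Cfsg.Agent.H998.PV
end

-- part: H998/PV/TitsThree
section
set_option linter.all false
open scoped Cfsg.Agent.FastGrp

/-!
# The row of the Tits group for the prime three (helper998)
-/

set_option autoImplicit false

namespace Cfsg.Agent.H998.PV

open Cfsg Cfsg.Agent.H620.PNorm

universe u

theorem card_tits' {K : Type u} [Group K] (h : Lie.IsoTits K) : Nat.card K = 2 ^ 11 * (3 ^ 3 * 5 ^ 2 * 13) := by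
  obtain ⟨e⟩ := h
  obtain ⟨-, -, -, hcard⟩ := Cfsg.Agent.S1074.result
  have h3 : Nat.card (commutator ↥(Cfsg.Lie.twistedF4 (ZMod 2) 1)) = 2 ^ 11 * 3 ^ 3 * 5 ^ 2 * 13 := hcard
  have h4 : Nat.card K = Nat.card (commutator ↥(Cfsg.Lie.twistedF4 (ZMod 2) 1)) := Nat.card_congr e.toEquiv
  rw [h4, h3]
  norm_num

theorem tits_3 {K : Type u} [Group K] (h : Lie.IsoTits K) : VOrdP 3 K :=
  vOrdP_of_card (by norm_num) (Cfsg.Agent.H690.Spor.Tits.hasDZ h (by norm_num) (by norm_num) (by norm_num))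
    (card_tits' h) (by norm_num) (by norm_num)

end Cfsg.Agent.H998.PV
end

-- part: H998/PV/TitsTwo
section
set_option linter.all false
open scoped Cfsg.Agent.FastGrp

/-!
# The row of the Tits group for the prime two (helper998)
-/

set_option autoImplicit false

namespace Cfsg.Agent.H998.PV

open Cfsg Cfsg.Agent.H620.PNorm

universe u

theorem card_model : Nat.card Cfsg.Lie.TitsGroup = 2 ^ 11 * (3 ^ 3 * 5 ^ 2 * 13) := by
  have h : Cfsg.Lie.IsoTits Cfsg.Lie.TitsGroup := ⟨MulEquiv.refl _⟩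
  exact card_tits' h

theorem hasDZ_tits_two : Cfsg.Agent.H665.NoPQ.HasDZ 2 Cfsg.Lie.TitsGroup := by
  obtain ⟨χ, hχ⟩ := Cfsg.Agent.H603.FD.TitsRow.mem_2048
  refine ⟨χ, ?_⟩
  have h1 : (2 ^ 11 * (3 ^ 3 * 5 ^ 2 * 13)).factorization 2 = 11 := by
    rw [Nat.factorization_mul (by norm_num) (by norm_num), Finsupp.add_apply,
      Nat.prime_two.factorization_pow, Finsupp.single_eq_same,
      Nat.factorization_eq_zero_of_not_dvd (n := 3 ^ 3 * 5 ^ 2 * 13) (by norm_num)]
  have h2 : (2048 : ℕ).factorization 2 = 11 := by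
    rw [show 2048 = 2 ^ 11 by norm_num, Nat.prime_two.factorization_pow, Finsupp.single_eq_same]
  rw [hχ, card_model, h1, h2]

theorem tits_2 {K : Type u} [Group K] (h : Lie.IsoTits K) : VOrdP 2 K := by
  obtain ⟨e⟩ := h
  have h1 : VOrdP 2 Cfsg.Lie.TitsGroup :=
    vOrdP_of_card Nat.prime_two hasDZ_tits_two card_model (by norm_num) (by norm_num)
  exact h1.mulEquiv e.symm

end Cfsg.Agent.H998.PV
end

-- part: H998/PV/ON
section
set_option linter.all false
open scoped Cfsg.Agent.FastGrp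

/-!
# The rows of the O'Nan group for the primes two and seven (helper998)
-/

set_option autoImplicit false

namespace Cfsg.Agent.H998.PV

open Cfsg Cfsg.Agent.H620.PNorm

universe u

theorem hasDZ_on {p n m : ℕ} (hp : p.Prime) (hd : p ^ n ∣ 175616) (hm : 460815505920 = p ^ n * m)
    (h : ¬ p ∣ m) : Cfsg.Agent.H665.NoPQ.HasDZ p Spor.ON := by
  have hc : Nat.card Spor.ON = 460815505920 := NotCT.Orders.on ⟨MulEquiv.refl _⟩
  have : Finite Spor.ON := Nat.finite_of_card_ne_zero (by rw [hc]; norm_num)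
  obtain ⟨χ, hχ⟩ := Cfsg.Agent.H210.On7.exists_charDegree
  refine Cfsg.Agent.H419.Row.dz_of_dvd (n := n) χ (by rw [hχ]; exact hd) ?_ hp
  rw [hc, hm]
  have hm0 : m ≠ 0 := fun h0 => h (h0 ▸ dvd_zero p)
  rw [Nat.factorization_mul (pow_ne_zero _ hp.ne_zero) hm0, Finsupp.add_apply, hp.factorization_pow,
    Finsupp.single_eq_same, Nat.factorization_eq_zero_of_not_dvd h, add_zero]

theorem on_2 {K : Type u} [Group K] (h : Spor.IsoON K) : VOrdP 2 K := by
  obtain ⟨e⟩ := h
  exact vOrdP_of_equiv e (by norm_num) (hasDZ_on (n := 9) (m := 460815505920 / 2 ^ 9) (by norm_num)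
    (by norm_num) (by norm_num) (by norm_num)) (NotCT.Orders.on ⟨MulEquiv.refl _⟩) (by norm_num) (by norm_num)

theorem on_7 {K : Type u} [Group K] (h : Spor.IsoON K) : VOrdP 7 K := by
  obtain ⟨e⟩ := h
  exact vOrdP_of_equiv e (by norm_num) (hasDZ_on (n := 3) (m := 460815505920 / 7 ^ 3) (by norm_num)
    (by norm_num) (by norm_num) (by norm_num)) (NotCT.Orders.on ⟨MulEquiv.refl _⟩) (by norm_num) (by norm_num)

end Cfsg.Agent.H998.PV
end

-- part: H123/PV/JJ_mg
section

end
end
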